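import Cfsg.Agent.KM.Easy_m3
import Cfsg.Agent.PQ.Spor.Tabs
import Cfsg.Agent.Lib.FinFast
import Cfsg.Agent.Prune
set_option linter.all false
prune_inst 0x7f00000000000000000000000000000000000000000000000000000000000000000000000000000000000000000000000000000000000000000000000000000000000000000000000000000000000000003fffffffffffffffffffffffffffbeffbdffffffff
private noncomputable def lq262970fa6c {T : Sort _} (f :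
    type_of% (@_root_.List.cons.{0} (Nat)) →
    type_of% (@_root_.Prod.mk.{0, 0}) →
    type_of% (@_root_.List.cons.{0}) →
    type_of% (@_root_.List.nil.{0}) →
    type_of% (@_root_.Cfsg.Agent.KM.Sp.Ct.mk) → T) : T :=
  f (@_root_.List.cons.{0} (Nat)) (@_root_.Prod.mk.{0, 0}) (@_root_.List.cons.{0}) (@_root_.List.nil.{0}) (@_root_.Cfsg.Agent.KM.Sp.Ct.mk)

/-!
# KM, sporadic rows: certificates (helper67)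
-/

set_option autoImplicit false
set_option maxRecDepth 100000

namespace Cfsg.Agent.KM.Sp

open Cfsg Cfsg.Agent.TAB Cfsg.Agent.TAB.Eng Cfsg.Agent.TAB.Use
open Cfsg.Agent.TAB.Sm2 (mkRows)

private noncomputable def _root_.Cfsg.Agent.LsF.f4dac25_0 : {f // @Cfsg.Agent.KM.Sp.rl = f} := ⟨_, by first | (delta Cfsg.Agent.KM.Sp.rl; rewrite [Cfsg.Agent.LsF.getD_eq]; exact rfl) | exact rfl⟩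
private noncomputable def _root_.Cfsg.Agent.LsF.f4dac25_1 : {f // @Cfsg.Agent.TAB.Use.Rows.n = f} := ⟨_, by first | (delta Cfsg.Agent.TAB.Use.Rows.n; rewrite [Cfsg.Agent.LsF.length_eq]; exact rfl) | exact rfl⟩
private noncomputable def _root_.Cfsg.Agent.LsF.f4dac25_2 : {f // @Cfsg.Agent.TAB.Use.Rows.d = f} := ⟨_, by first | (delta Cfsg.Agent.TAB.Use.Rows.d; rewrite [Cfsg.Agent.LsF.getD_eq]; exact rfl) | exact rfl⟩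
private noncomputable def _root_.Cfsg.Agent.LsF.f4dac25_3 : {f // @Cfsg.Agent.TAB.Eng.look = f} := ⟨_, by first | (delta Cfsg.Agent.TAB.Eng.look List.brecOn List.brecOn.go Cfsg.Agent.TAB.Eng.look._f; rewrite [Cfsg.Agent.LsF.instDecEq_eq, Cfsg.Agent.LsF.ite_eq]; (try delta Cfsg.Agent.TAB.Eng.look.match_1); (try delta List.casesOn); first | dsimp -zeta only | exact rfl) | exact rfl⟩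
private noncomputable def _root_.Cfsg.Agent.LsF.f4dac25_4 : {f // @Cfsg.Agent.KM.Sp.cbd = f} := ⟨_, by first | (delta Cfsg.Agent.KM.Sp.cbd; rewrite [Cfsg.Agent.LsF.f4dac25_0.2, Cfsg.Agent.LsF.f4dac25_1.2, Cfsg.Agent.LsF.f4dac25_2.2, Cfsg.Agent.LsF.f4dac25_3.2, Cfsg.Agent.LsF.nmul_pat, Cfsg.Agent.LsF.ndiv_pat, Cfsg.Agent.LsF.dProdEq_eq, Cfsg.Agent.LsF.instDecEq_eq, Cfsg.Agent.LsF.decLt_eq, Cfsg.Agent.LsF.getD_eq, Cfsg.Agent.LsF.headD_eq, Cfsg.Agent.LsF.natAbs_eq, Cfsg.Agent.LsF.instIDecEq_eq, Cfsg.Agent.LsF.dAnd_eq, Cfsg.Agent.LsF.dNot_eq, Cfsg.Agent.LsF.dListEq_eq, Cfsg.Agent.LsF.ite_eq]; exact rfl) | exact rfl⟩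
private noncomputable def _root_.Cfsg.Agent.LsF.f4dac25_5 : {f // @Cfsg.Agent.KM.Sp.ubB = f} := ⟨_, by first | (delta Cfsg.Agent.KM.Sp.ubB; rewrite [Cfsg.Agent.LsF.f4dac25_4.2, Cfsg.Agent.LsF.nadd_pat, Cfsg.Agent.LsF.nmod_pat, Cfsg.Agent.LsF.npow_pat, Cfsg.Agent.LsF.nbne_pat, Cfsg.Agent.LsF.all_eq, Cfsg.Agent.LsF.range_eq, Cfsg.Agent.LsF.getD_eq]; exact rfl) | exact rfl⟩
private noncomputable def _root_.Cfsg.Agent.LsF.f4dac25_6 : {f // @Cfsg.Agent.KM.Sp.psi = f} := ⟨_, by first | (delta Cfsg.Agent.KM.Sp.psi; rewrite [Cfsg.Agent.LsF.f4dac25_0.2, Cfsg.Agent.LsF.imul_pat, Cfsg.Agent.LsF.map_eq, Cfsg.Agent.LsF.sum_eq, Cfsg.Agent.LsF.getD_eq, Cfsg.Agent.LsF.instIAdd_eq]; exact rfl) | exact rfl⟩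
private noncomputable def _root_.Cfsg.Agent.LsF.f4dac25_7 : {f // @Cfsg.Agent.TAB.Eng.Dat.pw = f} := ⟨_, by first | (delta Cfsg.Agent.TAB.Eng.Dat.pw; rewrite [Cfsg.Agent.LsF.getD_eq]; exact rfl) | exact rfl⟩
private noncomputable def _root_.Cfsg.Agent.LsF.f4dac25_8 : {f // @Cfsg.Agent.TAB.Eng.Dat.ord = f} := ⟨_, by first | (delta Cfsg.Agent.TAB.Eng.Dat.ord; rewrite [Cfsg.Agent.LsF.getD_eq]; exact rfl) | exact rfl⟩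
private noncomputable def _root_.Cfsg.Agent.LsF.f4dac25_9 : {f // @Cfsg.Agent.TAB.Eng.Dat.pwf = f} := ⟨_, by first | (delta Cfsg.Agent.TAB.Eng.Dat.pwf; rewrite [Cfsg.Agent.LsF.f4dac25_3.2, Cfsg.Agent.LsF.f4dac25_7.2, Cfsg.Agent.LsF.f4dac25_8.2]; exact rfl) | exact rfl⟩
private noncomputable def _root_.Cfsg.Agent.LsF.f4dac25_10 : {f // @Cfsg.Agent.KM.Sp.killB = f} := ⟨_, by first | (delta Cfsg.Agent.KM.Sp.killB; rewrite [Cfsg.Agent.LsF.f4dac25_0.2, Cfsg.Agent.LsF.f4dac25_1.2, Cfsg.Agent.LsF.f4dac25_6.2, Cfsg.Agent.LsF.f4dac25_3.2, Cfsg.Agent.LsF.f4dac25_9.2, Cfsg.Agent.LsF.f4dac25_8.2, Cfsg.Agent.LsF.f4dac25_7.2, Cfsg.Agent.LsF.nmod_pat, Cfsg.Agent.LsF.npow_pat, Cfsg.Agent.LsF.nbeq_pat, Cfsg.Agent.LsF.nbne_pat, Cfsg.Agent.LsF.instNBEq_pat, Cfsg.Agent.LsF.isub_pat,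 Cfsg.Agent.LsF.imod_pat, Cfsg.Agent.LsF.icast_pat, Cfsg.Agent.LsF.ibeq_pat, Cfsg.Agent.LsF.instIBEq_pat, Cfsg.Agent.LsF.and_eq, Cfsg.Agent.LsF.or_eq, Cfsg.Agent.LsF.decLt_eq, Cfsg.Agent.LsF.all_eq, Cfsg.Agent.LsF.any_eq, Cfsg.Agent.LsF.contains_eq, Cfsg.Agent.LsF.range_eq, Cfsg.Agent.LsF.getD_eq, Cfsg.Agent.LsF.bne_eq, Cfsg.Agent.LsF.decide_eq]; exact rfl) | exact rfl⟩
private noncomputable def _root_.Cfsg.Agent.LsF.f4dac25_11 : {f // @Cfsg.Agent.TAB.Eng.Dat.cnt = f} := ⟨_, by first | (delta Cfsg.Agent.TAB.Eng.Dat.cnt; rewrite [Cfsg.Agent.LsF.getD_eq]; exact rfl) | exact rfl⟩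
private noncomputable def _root_.Cfsg.Agent.LsF.f4dac25_12 : {f // @Cfsg.Agent.KM.Sp.cbg = f} := ⟨_, by first | (delta Cfsg.Agent.KM.Sp.cbg; rewrite [Cfsg.Agent.LsF.f4dac25_4.2, Cfsg.Agent.LsF.foldr_eq]; exact rfl) | exact rfl⟩
private noncomputable def _root_.Cfsg.Agent.LsF.f4dac25_13 : {f // @Cfsg.Agent.KM.Sp.lbB = f} := ⟨_, by first | (delta Cfsg.Agent.KM.Sp.lbB; rewrite [Cfsg.Agent.LsF.f4dac25_11.2, Cfsg.Agent.LsF.f4dac25_12.2, Cfsg.Agent.LsF.nmul_pat, Cfsg.Agent.LsF.nsub_pat, Cfsg.Agent.LsF.ndiv_pat, Cfsg.Agent.LsF.npow_pat, Cfsg.Agent.LsF.decLt_eq, Cfsg.Agent.LsF.decide_eq]; exact rfl) | exact rfl⟩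
private noncomputable def _root_.Cfsg.Agent.LsF.f4dac25_14 : {f // @Cfsg.Agent.KM.Sp.chk = f} := ⟨_, by first | (delta Cfsg.Agent.KM.Sp.chk; rewrite [Cfsg.Agent.LsF.f4dac25_5.2, Cfsg.Agent.LsF.f4dac25_10.2, Cfsg.Agent.LsF.f4dac25_8.2, Cfsg.Agent.LsF.f4dac25_7.2, Cfsg.Agent.LsF.f4dac25_9.2, Cfsg.Agent.LsF.f4dac25_13.2, Cfsg.Agent.LsF.nadd_pat, Cfsg.Agent.LsF.nmod_pat, Cfsg.Agent.LsF.npow_pat, Cfsg.Agent.LsF.nbeq_pat, Cfsg.Agent.LsF.nbne_pat, Cfsg.Agent.LsF.and_eq, Cfsg.Agent.LsF.or_eq, Cfsg.Agent.LsF.decLe_eq, Cfsg.Agent.LsF.all_eq, Cfsg.Agent.LsF.any_eq, Cfsg.Agent.LsF.range_eq, Cfsg.Agent.LsF.decide_eq]; exact rfl) | exact rfl⟩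
private noncomputable def _root_.Cfsg.Agent.LsF.f4dac25_15 : {f // @Cfsg.Agent.TAB.Sm2.rw' = f} := ⟨_, by first | (delta Cfsg.Agent.TAB.Sm2.rw'; rewrite [Cfsg.Agent.LsF.lappend_pat, Cfsg.Agent.LsF.getD_eq]; exact rfl) | exact rfl⟩
private noncomputable def _root_.Cfsg.Agent.LsF.f4dac25_16 : {f // @Cfsg.Agent.TAB.Sm2.wt = f} := ⟨_, by first | (delta Cfsg.Agent.TAB.Sm2.wt; rewrite [Cfsg.Agent.LsF.f4dac25_15.2, Cfsg.Agent.LsF.imul_pat, Cfsg.Agent.LsF.decLt_eq, Cfsg.Agent.LsF.length_eq, Cfsg.Agent.LsF.ite_eq]; exact rfl) | exact rfl⟩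
private noncomputable def _root_.Cfsg.Agent.LsF.f4dac25_17 : {f // @Cfsg.Agent.TAB.Sm2.ro = f} := ⟨_, by first | (delta Cfsg.Agent.TAB.Sm2.ro; rewrite [Cfsg.Agent.LsF.nadd_pat, Cfsg.Agent.LsF.nsub_pat, Cfsg.Agent.LsF.ndiv_pat, Cfsg.Agent.LsF.decLt_eq, Cfsg.Agent.LsF.length_eq, Cfsg.Agent.LsF.ite_eq]; exact rfl) | exact rfl⟩
private noncomputable def _root_.Cfsg.Agent.LsF.f4dac25_18 : {f // @Cfsg.Agent.TAB.Sm2.mkRows = f} := ⟨_, by first | (delta Cfsg.Agent.TAB.Sm2.mkRows; rewrite [Cfsg.Agent.LsF.f4dac25_16.2, Cfsg.Agent.LsF.f4dac25_17.2, Cfsg.Agent.LsF.f4dac25_15.2, Cfsg.Agent.LsF.nadd_pat, Cfsg.Agent.LsF.nmul_pat, Cfsg.Agent.LsF.ndiv_pat, Cfsg.Agent.LsF.lappend_pat, Cfsg.Agent.LsF.map_eq, Cfsg.Agent.LsF.range_eq, Cfsg.Agent.LsF.toNat_eq, Cfsg.Agent.LsF.length_eq];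 exact rfl) | exact rfl⟩
theorem okFi22_2 : Ok F22.dat (mkRows F22.rowA F22.rowB) [] 2 5 [] :=
    ⟨(beta% delta% lq262970fa6c fun a b d e f =>
 (f 17 (let c:=(let c:=(let c:=(let c:=(a 1<|a 12<|a 12<|a 1<|e);
 (a 7<|a 2<|a 11<|a 0<|c));
 (a 12<|a 13<|a 0<|a 1<|a 1<|a 17<|a 1<|c));
 (let c:=(let c:=(a 12<|a 12<|a 14<|a 13<|c);
 (a 13<|a 12<|a 14<|a 12<|c));
 (a 14<|a 1<|a 1<|a 2<|a 7<|a 2<|a 1<|c)));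
 (let c:=(let c:=(let c:=(a 1<|a 17<|a 17<|a 14<|
 c);
 (a 13<|a 10<|a 7<|a 7<|c));
 (a 12<|a 13<|a 12<|a 12<|a 9<|a 4<|a 11<|c));
 (let c:=(a 8<|a 17<|a 17<|a 15<|a 15<|a 17<|a 3<|c);
 (d 17<|d 17<|d 17<|d 16<|d 3<|d 7<|d 6<|c)))) (let c:=(let c:=(let c:=(let c:=(a 50<|a 10<|a 10<|a 50<|e);
 (a 47<|a 50<|a 25<|a 43<|c));
 (a 10<|a 41<|a 43<|a 50<|a 43<|a 0<|a 50<|c));
 (let c:=(let c:=(a 10<|a 10<|a 13<|a 41<|c);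
 (a 40<|a 25<|a 13<|a 10<|c));
 (a 10<|a 43<|a 43<|
 a 43<|a 47<|a 50<|a 50<|c)));
 (let c:=(let c:=(let c:=(a 43<|a 0<|a 0<|a 10<|c);
 (a 42<|a 47<|a 50<|a 50<|c));
 (a 30<|a 25<|a 25<|a 10<|a 47<|a 50<|a 47<|c));
 (let c:=(a 50<|a 0<|a 0<|a 10<|a 10<|a 0<|a 43<|c);
 (d 0<|d 0<|
 d 0<|d 50<|d 43<|d 43<|d 43<|c)))) (d (b 0<|
 b 14<|b (d (b (-2053) 1)<|d (b (-2563) 2)<|d (b 3581 3)<|d (b 1531 5)<|d (b 1539 7)<|d (b 1 12)<|e) (d (b 0 3253)<|d (b 1 3045)<|d (b 2 3061)<|d (b 8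
 7169)<|d (b 9 3045)<|d (b 12 15365)<|d (b 27 3073)<|e))<|d (b 4<|b 5<|b e e)<|d (b 5<|b 7<|b (d (b (-29) 1)<|d (b (-1) 2)<|d (b 59 4)<|d (b 1 41)<|e) (d (b 5
 113)<|d (b 15 37)<|d (b 20 97)<|e))<|d (b 6<|b 5<|b (d (b 1 5)<|e) (d (b 6 31)<|d (b 18 31)<|d (b 21 3)<|e))<|d (b 7<|b 8<|b (d (b 1 8)<|e) (d (b 7 9)<|d (b 22 1)<|
 d (b 40 1)<|e))<|d (b 13<|b 5<|b e e)<|d (b 25<|b 5<|b e e)<|d (b 31<|b 5<|b e e)<|d (b 32<|b 5<|b e e)<|d (b 35<|b 5<|b e e)<|d (b 46<|b 5<|b e e)<|e)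
 (d (b 0 e)<|d (b 5 (d 7<|d 3<|e))<|d (b 7 (d 26<|d 1<|e))<|e)) :
 Cfsg.Agent.KM.Sp.Ct),
    by ((try (rewrite [Cfsg.Agent.LsF.f4dac25_14.2, Cfsg.Agent.LsF.f4dac25_18.2, Cfsg.Agent.LsF.ineg_pat])); decide +kernel)⟩

theorem okFi22_3a : Ok F22.dat (mkRows F22.rowA F22.rowB) [] 3 3 [4] :=
    ⟨(beta% delta% lq262970fa6c fun a b d e f =>
 (f 9 (let c:=(let c:=(let c:=(let c:=(a 0<|a 1<|a 1<|a 1<|e);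
 (a 8<|a 8<|a 0<|a 1<|c));
 (a 2<|a 5<|a 1<|a 1<|a 1<|a 0<|a 8<|c));
 (let c:=(let c:=(a 2<|a 2<|a 5<|a 4<|c);
 (a 6<|a 5<|a 6<|a 1<|c));
 (a 1<|a 9<|a 9<|a 9<|a 0<|a 1<|a 0<|
 c)));
 (let c:=(let c:=(let c:=(a 1<|a 0<|a 1<|a 1<|c);
 (a 7<|a 3<|a 7<|a 5<|c));
 (a 7<|a 6<|a 6<|a 3<|a 6<|a 7<|a 6<|c));
 (let c:=(a 7<|a 2<|a 1<|a 1<|a 2<|a 3<|a 1<|c);
 (d 9<|d 3<|d 4<|d 6<|d 9<|d 9<|d 9<|c)))) (let c:=(let c:=(let c:=(let c:=(a 44<|a 26<|a 26<|a 26<|e);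
 (a 1<|a 1<|a 44<|a 26<|c));
 (a 26<|a 39<|a 26<|a 31<|a 26<|a 44<|a 1<|c));
 (let c:=(let c:=(a 26<|
 a 26<|a 39<|a 39<|c);
 (a 34<|a 19<|a 19<|a 26<|c));
 (a 26<|a 0<|a 0<|a 0<|a 44<|a 26<|a 44<|c)));
 (let c:=(let c:=(let c:=(a 26<|a 44<|a 26<|a 26<|c);
 (a 12<|a 26<|a 19<|a 26<|c));
 (a 12<|a 19<|a 19<|a 26<|a 19<|a 19<|a 19<|c));
 (let c:=(a 26<|a 44<|a 44<|a 26<|a 26<|
 a 26<|a 26<|c);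
 (d 0<|d 26<|d 26<|d 26<|d 0<|d 0<|d 0<|c)))) (d (b 0<|b 6<|b (d (b 4 3)<|d (b (-183) 4)<|d (b 1 14)<|e) (d (b 0
 372)<|d (b 5 192)<|e))<|d (b 1<|b 3<|b (d (b (-7) 1)<|d (b (-2) 3)<|d (b 1 5)<|e) (d (b 1 9)<|e))<|d (b 2<|b 4<|b (d (b 1 10)<|e) (d (b 2 4)<|d (b 20 1)<|e))<|d (b 9<|b 3<|b e
 e)<|d (b 10<|b 3<|b e e)<|d (b 11<|b 3<|b e e)<|d (b 12<|b 3<|b (d (b 1 1)<|e) (d (b 12 24)<|e))<|d (b 13<|b 3<|b e e)<|d (b 25<|b 3<|b e e)<|d (b 35<|b 3<|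
 b e e)<|d (b 46<|b 3<|b e e)<|e) (d (b 0 e)<|d (b 2 (d 4<|d 3<|e))<|d (b 3 (d 4<|e))<|e)) :
 Cfsg.Agent.KM.Sp.Ct),
    by ((try (rewrite [Cfsg.Agent.LsF.f4dac25_14.2, Cfsg.Agent.LsF.f4dac25_18.2, Cfsg.Agent.LsF.ineg_pat])); decide +kernel)⟩

theorem okFi22_3b : Ok F22.dat (mkRows F22.rowA F22.rowB) [] 3 3 [5] :=
    ⟨(beta% delta% lq262970fa6c fun a b d e f =>
 (f 9 (let c:=(let c:=(let c:=(let c:=(a 0<|a 1<|a 1<|a 1<|e);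
 (a 8<|a 8<|a 0<|a 1<|c));
 (a 2<|a 5<|a 1<|a 1<|a 1<|a 0<|a 8<|c));
 (let c:=(let c:=(a 2<|a 2<|a 5<|a 4<|c);
 (a 6<|a 5<|a 6<|a 1<|c));
 (a 1<|a 9<|a 9<|a 9<|a 0<|a 1<|a 0<|
 c)));
 (let c:=(let c:=(let c:=(a 1<|a 0<|a 1<|a 1<|c);
 (a 7<|a 3<|a 7<|a 5<|c));
 (a 7<|a 6<|a 6<|a 3<|a 6<|a 7<|a 6<|c));
 (let c:=(a 7<|a 2<|a 1<|a 1<|a 2<|a 3<|a 1<|c);
 (d 9<|d 3<|d 4<|d 6<|d 9<|d 9<|d 9<|c)))) (let c:=(let c:=(let c:=(let c:=(a 44<|a 26<|a 26<|a 26<|e);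
 (a 1<|a 1<|a 44<|a 26<|c));
 (a 26<|a 39<|a 26<|a 31<|a 26<|a 44<|a 1<|c));
 (let c:=(let c:=(a 26<|
 a 26<|a 39<|a 39<|c);
 (a 34<|a 19<|a 19<|a 26<|c));
 (a 26<|a 0<|a 0<|a 0<|a 44<|a 26<|a 44<|c)));
 (let c:=(let c:=(let c:=(a 26<|a 44<|a 26<|a 26<|c);
 (a 12<|a 26<|a 19<|a 26<|c));
 (a 12<|a 19<|a 19<|a 26<|a 19<|a 19<|a 19<|c));
 (let c:=(a 26<|a 44<|a 44<|a 26<|a 26<|
 a 26<|a 26<|c);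
 (d 0<|d 26<|d 26<|d 26<|d 0<|d 0<|d 0<|c)))) (d (b 0<|b 5<|b (d (b (-1) 2)<|d (b 1 7)<|e) (d (b 0 9)<|e))<|d (b 1<|b 3<|
 b (d (b 1 3)<|e) (d (b 1 2)<|e))<|d (b 2<|b 3<|b (d (b 1 24)<|e) (d (b 2 25)<|e))<|d (b 3<|b 3<|b (d (b 1 3)<|e) (d (b 3 21)<|e))<|d (b 13<|b 3<|b e e)<|d (b 25<|b 3<|b e e)<|
 d (b 35<|b 3<|b e e)<|d (b 46<|b 3<|b e e)<|e) (d (b 0 e)<|e)) :
 Cfsg.Agent.KM.Sp.Ct),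
    by ((try (rewrite [Cfsg.Agent.LsF.f4dac25_14.2, Cfsg.Agent.LsF.f4dac25_18.2, Cfsg.Agent.LsF.ineg_pat])); decide +kernel)⟩

private noncomputable def _root_.Cfsg.Agent.LsF.f4dac25_19 : {f // @Cfsg.Agent.TAB.F23.R = f} := ⟨_, by first | (delta Cfsg.Agent.TAB.F23.R; rewrite [Cfsg.Agent.LsF.zip_eq]; exact rfl) | exact rfl⟩
theorem okFi23_2 : Ok F23.D F23.R [(5, 75582720)] 2 5 [] :=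
    ⟨(beta% delta% lq262970fa6c fun a b d e f =>
 (f 18 (let c:=(let c:=(let c:=(let c:=(a 3<|a 11<|a 1<|a 1<|a 3<|a 7<|e);
 (a 2<|a 3<|a 3<|a 2<|a 7<|a 1<|c));
 (let c:=(a 3<|a 1<|a 13<|a 13<|a 16<|a 1<|c);
 (a 8<|a 8<|a 4<|a 1<|a 3<|c)));
 (let c:=(let c:=(a 3<|a 8<|a 2<|a 4<|a 3<|a 7<|c);
 (a 2<|a 3<|a 2<|a 18<|a 2<|
 a 2<|c));
 (let c:=(a 14<|a 14<|a 7<|a 6<|a 1<|a 3<|c);
 (a 13<|a 12<|a 14<|a 15<|a 10<|c))));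
 (let c:=(let c:=(let c:=(a 13<|a 9<|a 14<|a 5<|a 13<|a 13<|c);
 (a 2<|a 4<|a 8<|a 4<|a 4<|a 3<|c));
 (let c:=(a 18<|
 a 15<|a 15<|a 3<|a 3<|a 3<|c);
 (a 13<|a 13<|a 9<|a 10<|a 3<|c)));
 (let c:=(let c:=(a 6<|a 12<|a 11<|a 11<|a 9<|a 8<|c);
 (a 12<|a 4<|a 4<|a 9<|a 10<|a 10<|c));
 (let c:=(a 7<|a 10<|a 9<|a 18<|a 14<|a 18<|c);
 (d 18<|d 18<|d 18<|d 18<|d 4<|c))))) (let c:=(let c:=(let c:=(let c:=(a 55<|a 15<|a 49<|a 49<|a 55<|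
 a 49<|e);
 (a 53<|a 55<|a 53<|a 49<|a 78<|a 49<|c));
 (let c:=(a 55<|a 49<|a 33<|a 33<|a 2<|a 49<|c);
 (a 78<|a 21<|a 55<|a 49<|a 53<|c)));
 (let c:=(let c:=(a 53<|a 21<|a 49<|a 53<|a 49<|a 78<|c);
 (a 49<|a 49<|a 49<|a 0<|a 53<|a 49<|
 c));
 (let c:=(a 15<|a 48<|a 55<|a 55<|a 49<|a 53<|c);
 (a 15<|a 15<|a 48<|a 43<|a 21<|c))));
 (let c:=(let c:=(let c:=(a 48<|a 21<|a 48<|a 55<|a 15<|a 15<|c);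
 (a 49<|a 49<|a 21<|a 53<|a 49<|a 53<|c));
 (let c:=(a 0<|a 33<|a 33<|a 53<|a 49<|a 49<|
 c);
 (a 78<|a 78<|a 53<|a 49<|a 49<|c)));
 (let c:=(let c:=(a 53<|a 21<|a 78<|a 21<|a 53<|a 49<|c);
 (a 55<|a 49<|a 49<|a 78<|a 78<|a 21<|c));
 (let c:=(a 49<|a 49<|a 53<|a 0<|a 21<|a 0<|c);
 (d 0<|d 0<|d 0<|d 0<|d 49<|
 c))))) (d (b 0<|b 15<|b (d (b 7267 1)<|d (b 15055 2)<|d (b (-12085) 3)<|d (b 1 19)<|e) (d (b 0 20485)<|d (b 1 7813)<|d (b 8 5733)<|d (b 10 26621)<|d (b 28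
 12085)<|e))<|d (b 4<|b 5<|b e e)<|d (b 5<|b 7<|b (d (b 1 53)<|e) e)<|d (b 6<|b 9<|b (d (b 2 1)<|d (b (-126) 3)<|d (b 1 15)<|e) (d (b 6 10)<|d (b 18 254)<|d (b 23
 10)<|d (b 49 510)<|e))<|d (b 7<|b 8<|b (d (b (-1) 2)<|d (b 1 19)<|e) (d (b 7 11)<|d (b 20 251)<|d (b 25 3)<|d (b 45 255)<|d (b 46 255)<|e))<|d (b 12<|b 5<|b e
 e)<|d (b 27<|b 5<|b e e)<|d (b 32<|b 5<|b e e)<|d (b 33<|b 5<|b e e)<|d (b 34<|b 5<|b e e)<|d (b 35<|b 5<|b e e)<|d (b 39<|b 5<|b e e)<|d (b 55<|b 5<|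
 b e e)<|d (b 61<|b 5<|b e e)<|d (b 75<|b 5<|b e e)<|e) (d (b 0 e)<|d (b 5 (d 54<|e))<|d (b 6 (d 11<|d 2<|e))<|d (b 7 (d 60<|d 10<|e))<|e)) :
 Cfsg.Agent.KM.Sp.Ct),
    by ((try (rewrite [Cfsg.Agent.LsF.f4dac25_14.2, Cfsg.Agent.LsF.f4dac25_19.2, Cfsg.Agent.LsF.ineg_pat])); decide +kernel)⟩

theorem okFi23_3 : Ok F23.D F23.R [(10, 663552)] 3 3 [] :=
    ⟨(beta% delta% lq262970fa6c fun a b d e f =>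
 (f 13 (let c:=(let c:=(let c:=(let c:=(a 10<|a 10<|a 1<|a 1<|a 1<|a 10<|e);
 (a 13<|a 1<|a 1<|a 1<|a 6<|a 0<|c));
 (let c:=(a 0<|a 1<|a 1<|a 1<|a 5<|a 1<|c);
 (a 11<|a 0<|a 1<|a 1<|a 0<|c)));
 (let c:=(let c:=(a 10<|a 11<|a 11<|a 10<|
 a 11<|a 11<|c);
 (a 1<|a 2<|a 6<|a 0<|a 0<|a 12<|c));
 (let c:=(a 7<|a 7<|a 3<|a 7<|a 1<|a 0<|c);
 (a 2<|a 10<|a 6<|a 7<|a 2<|c))));
 (let c:=(let c:=(let c:=(a 8<|a 6<|a 7<|a 7<|a 7<|a 3<|c);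
 (a 13<|a 13<|a 1<|a 1<|a 1<|a 0<|c));
 (let c:=(a 1<|a 1<|a 1<|a 13<|
 a 12<|a 12<|c);
 (a 9<|a 10<|a 5<|a 7<|a 1<|c)));
 (let c:=(let c:=(a 8<|a 8<|a 8<|a 4<|a 8<|a 10<|c);
 (a 4<|a 2<|a 11<|a 10<|a 10<|a 8<|c));
 (let c:=(a 12<|a 13<|a 10<|a 2<|a 2<|a 4<|c);
 (d 13<|d 5<|d 6<|d 9<|d 13<|c))))) (let c:=(let c:=(let c:=(let c:=(a 5<|a 25<|a 60<|a 60<|a 60<|a 19<|e);
 (a 0<|a 60<|a 60<|a 60<|a 19<|a 81<|c));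
 (let c:=(a 81<|a 71<|a 60<|a 60<|a 54<|a 60<|c);
 (a 25<|a 81<|a 60<|a 60<|a 81<|c)));
 (let c:=(let c:=(a 5<|a 5<|a 5<|a 5<|a 5<|
 a 43<|c);
 (a 60<|a 60<|a 19<|a 81<|a 81<|a 2<|c));
 (let c:=(a 19<|a 54<|a 60<|a 19<|a 60<|a 81<|c);
 (a 60<|a 25<|a 54<|a 19<|a 60<|c))));
 (let c:=(let c:=(let c:=(a 62<|a 19<|a 19<|a 19<|a 19<|a 60<|c);
 (a 0<|a 0<|a 81<|a 60<|
 a 60<|a 81<|c));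
 (let c:=(a 81<|a 60<|a 60<|a 0<|a 5<|a 5<|c);
 (a 19<|a 19<|a 60<|a 60<|a 60<|c)));
 (let c:=(let c:=(a 19<|a 19<|a 19<|a 60<|a 19<|a 19<|c);
 (a 60<|a 60<|a 5<|a 32<|a 32<|a 19<|c));
 (let c:=(a 19<|a 0<|a 60<|
 a 81<|a 60<|a 21<|c);
 (d 0<|d 60<|d 60<|d 60<|d 0<|c))))) (d (b 0<|b 11<|b (d (b (-728)
 1)<|d (b (-79459) 2)<|d (b (-18957) 3)<|d (b 728 4)<|d (b 1 8)<|e) (d (b 0 121740)<|d (b 4 95505)<|d (b 6 102057)<|d (b 35 158919)<|e))<|d (b 1<|b 5<|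
 b (d (b 1 60)<|e) e)<|d (b 2<|b 6<|b (d (b 1 30)<|e) (d (b 2 712)<|d (b 21 1)<|e))<|d (b 3<|b 8<|b (d (b 1 15)<|e) (d (b 3 16)<|d (b 13 6559)<|d (b 22 6559)<|e))<|d (b 8<|
 b 3<|b e e)<|d (b 9<|b 3<|b e e)<|d (b 10<|b 4<|b (d (b 1 4)<|e) (d (b 10 3)<|e))<|d (b 11<|b 4<|b (d (b 1 2)<|e) (d (b 11 80)<|d (b 54 80)<|e))<|d (b 12<|b 3<|b e
 e)<|d (b 27<|b 3<|b e e)<|d (b 29<|b 3<|b e e)<|d (b 30<|b 3<|b e e)<|d (b 39<|b 3<|b e e)<|d (b 55<|b 3<|b e e)<|d (b 61<|b 3<|b e e)<|d (b 75<|b 3<|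
 b e e)<|e) (d (b 0 e)<|d (b 1 (d 10<|d 7<|e))<|d (b 2 (d 10<|e))<|d (b 3 (d 1<|e))<|d (b 10 (d 21<|e))<|d (b 11 (d 55<|d 10<|e))<|e)) :
 Cfsg.Agent.KM.Sp.Ct),
    by ((try (rewrite [Cfsg.Agent.LsF.f4dac25_14.2, Cfsg.Agent.LsF.f4dac25_19.2, Cfsg.Agent.LsF.ineg_pat])); decide +kernel)⟩

private noncomputable def _root_.Cfsg.Agent.LsF.f4dac25_20 : {f // @Cfsg.Agent.TAB.Eng.rwL = f} := ⟨_, by first | (delta Cfsg.Agent.TAB.Eng.rwL; rewrite [Cfsg.Agent.LsF.map_eq]; exact rfl) | exact rfl⟩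
private noncomputable def _root_.Cfsg.Agent.LsF.f4dac25_21 : {f // @Cfsg.Agent.TAB.Eng.relL = f} := ⟨_, by first | (delta Cfsg.Agent.TAB.Eng.relL; rewrite [Cfsg.Agent.LsF.f4dac25_20.2]; exact rfl) | exact rfl⟩
private noncomputable def _root_.Cfsg.Agent.LsF.f4dac25_22 : {f // @Cfsg.Agent.TAB.Eng.mkR = f} := ⟨_, by first | (delta Cfsg.Agent.TAB.Eng.mkR; rewrite [Cfsg.Agent.LsF.f4dac25_21.2]; exact rfl) | exact rfl⟩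
private noncomputable def _root_.Cfsg.Agent.LsF.f4dac25_23 : {f // @Cfsg.Agent.TAB.F24.tabT = f} := ⟨_, by first | (delta Cfsg.Agent.TAB.F24.tabT; rewrite [Cfsg.Agent.LsF.f4dac25_22.2]; exact rfl) | exact rfl⟩
theorem okFi24_2 : Ok F24.DT F24.tabT [(4, 14285134080), (43, 3888)] 2 5 [] :=
    ⟨(beta% delta% lq262970fa6c fun a b d e f =>
 (f 21 (let c:=(let c:=(let c:=(let c:=(a 2<|a 2<|a 2<|a 7<|a 2<|a 3<|e);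
 (a 3<|a 2<|a 2<|a 13<|a 3<|a 14<|c));
 (let c:=(a 2<|a 2<|a 2<|a 3<|a 7<|a 7<|c);
 (a 2<|a 18<|a 15<|a 15<|a 18<|a 19<|c)));
 (let c:=(let c:=(a 4<|a 14<|a 2<|a 2<|a 4<|a 3<|c);
 (a 8<|a 3<|a 10<|a 3<|a 4<|
 a 8<|c));
 (let c:=(a 3<|a 3<|a 2<|a 21<|a 2<|a 7<|c);
 (a 16<|a 14<|a 2<|a 3<|a 7<|c))));
 (let c:=(let c:=(let c:=(a 5<|a 16<|a 4<|a 16<|a 16<|a 7<|c);
 (a 5<|a 3<|a 6<|a 15<|a 16<|a 16<|c));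
 (let c:=(a 3<|a 5<|a 5<|a 3<|a 2<|a 10<|c);
 (a 3<|a 4<|a 21<|a 21<|a 21<|a 3<|
 c)));
 (let c:=(let c:=(a 9<|a 8<|a 13<|a 14<|a 10<|a 10<|c);
 (a 6<|a 5<|a 10<|a 11<|a 12<|a 14<|c));
 (let c:=(a 12<|a 10<|a 8<|a 21<|a 12<|a 21<|c);
 (d 21<|d 21<|d 19<|d 5<|d 8<|c))))) (let c:=(let c:=(let c:=(let c:=(a 30<|a 30<|
 a 30<|a 27<|a 30<|a 45<|e);
 (a 30<|a 75<|a 30<|a 15<|a 45<|a 13<|c));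
 (let c:=(a 30<|a 75<|a 62<|a 45<|a 69<|a 27<|c);
 (a 30<|a 10<|a 14<|a 14<|a 12<|a 21<|c)));
 (let c:=(let c:=(a 45<|a 13<|a 30<|a 75<|a 45<|a 45<|c);
 (a 27<|a 30<|a 53<|a 30<|
 a 30<|a 53<|c));
 (let c:=(a 30<|a 30<|a 75<|a 0<|a 75<|a 27<|c);
 (a 15<|a 32<|a 30<|a 30<|a 69<|c))));
 (let c:=(let c:=(let c:=(a 45<|a 44<|a 7<|a 13<|a 13<|a 45<|c);
 (a 30<|a 45<|a 45<|a 44<|a 42<|a 13<|c));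
 (let c:=(a 30<|a 30<|a 30<|a 30<|
 a 75<|a 27<|c);
 (a 30<|a 30<|a 0<|a 0<|a 0<|a 30<|c)));
 (let c:=(let c:=(a 30<|a 30<|a 27<|a 27<|a 45<|a 69<|c);
 (a 30<|a 30<|a 27<|a 27<|a 53<|a 27<|c));
 (let c:=(a 45<|a 30<|a 75<|a 0<|a 45<|a 0<|c);
 (d 0<|d 0<|d 30<|
 d 30<|d 30<|c))))) (d (b 0<|b 18<|b (d (b (-100073) 1)<|d (b 29266 2)<|d (b 54996 3)<|d (b 1 5)<|e) (d (b 0 18460)<|d (b 1 94236)<|d (b 8 122268)<|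
 d (b 10 52092)<|d (b 25 129340)<|e))<|d (b 3<|b 5<|b (d (b 1 34)<|e) e)<|d (b 4<|b 8<|b (d (b (-1) 1)<|d (b (-1) 2)<|d (b 1 3)<|e) (d (b 15 248)<|e))<|d (b 5<|b 9<|b (d (b 1
 1)<|e) (d (b 5 503)<|d (b 16 7)<|d (b 40 511)<|d (b 45 511)<|e))<|d (b 6<|b 9<|b (d (b 184 1)<|d (b (-82) 2)<|d (b 1 3)<|e) (d (b 6 15)<|d (b 19 415)<|d (b 42
 267)<|e))<|d (b 7<|b 5<|b (d (b 1 1)<|e) (d (b 7 29)<|d (b 22 1)<|d (b 48 31)<|e))<|d (b 11<|b 5<|b (d (b 1 5)<|e) (d (b 11 3)<|d (b 34 31)<|e))<|d (b 23<|b 5<|b e e)<|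
 d (b 24<|b 5<|b e e)<|d (b 28<|b 5<|b e e)<|d (b 30<|b 5<|b (d (b 1 1)<|e) (d (b 58 30)<|e))<|d (b 31<|b 5<|b (d (b 1 1)<|e) (d (b 31 29)<|d (b 60 1)<|e))<|d (b 32<|b 5<|
 b e e)<|d (b 33<|b 5<|b e e)<|d (b 36<|b 5<|b e e)<|d (b 49<|b 5<|b e e)<|d (b 56<|b 5<|b e e)<|d (b 70<|b 5<|b e e)<|d (b 80<|b 5<|b e (d (b 80
 1)<|e))<|e) (d (b 0 e)<|d (b 4 (d 50<|e))<|d (b 5 (d 2<|d 3<|e))<|d (b 6 (d 8<|d 7<|e))<|e)) :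
 Cfsg.Agent.KM.Sp.Ct),
    by ((try (rewrite [Cfsg.Agent.LsF.f4dac25_14.2, Cfsg.Agent.LsF.f4dac25_23.2, Cfsg.Agent.LsF.ineg_pat])); decide +kernel)⟩

theorem okFi24_3 : Ok F24.DT F24.tabT [(10, 39813120)] 3 3 [] :=
    ⟨(beta% delta% lq262970fa6c fun a b d e f =>
 (f 16 (let c:=(let c:=(let c:=(let c:=(a 2<|a 2<|a 2<|a 7<|a 12<|a 2<|e);
 (a 2<|a 10<|a 0<|a 13<|a 12<|a 13<|c));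
 (let c:=(a 2<|a 16<|a 16<|a 0<|a 2<|a 7<|c);
 (a 0<|a 7<|a 2<|a 2<|a 7<|a 2<|c)));
 (let c:=(let c:=(a 2<|a 0<|a 2<|a 2<|a 7<|a 2<|c);
 (a 14<|a 15<|a 14<|a 13<|a 13<|a 15<|
 c));
 (let c:=(a 8<|a 4<|a 8<|a 0<|a 0<|a 15<|c);
 (a 9<|a 3<|a 2<|a 1<|a 1<|c))));
 (let c:=(let c:=(let c:=(a 8<|a 8<|a 11<|a 9<|a 5<|a 4<|c);
 (a 1<|a 3<|a 8<|a 10<|a 8<|a 3<|c));
 (let c:=(a 16<|
 a 16<|a 16<|a 16<|a 16<|a 1<|c);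
 (a 2<|a 2<|a 2<|a 2<|a 1<|a 16<|c)));
 (let c:=(let c:=(a 11<|a 11<|a 11<|a 13<|a 8<|a 4<|c);
 (a 4<|a 13<|a 12<|a 13<|a 10<|a 6<|c));
 (let c:=(a 14<|a 16<|a 8<|a 2<|a 4<|a 5<|c);
 (d 16<|d 7<|d 9<|d 16<|d 16<|c))))) (let c:=(let c:=(let c:=(let c:=(a 50<|a 50<|a 50<|a 36<|a 20<|
 a 50<|e);
 (a 50<|a 43<|a 71<|a 8<|a 20<|a 8<|c));
 (let c:=(a 50<|a 0<|a 0<|a 71<|a 61<|a 36<|c);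
 (a 71<|a 36<|a 50<|a 50<|a 36<|a 50<|c)));
 (let c:=(let c:=(a 50<|a 71<|a 50<|a 50<|a 36<|a 50<|c);
 (a 8<|a 2<|a 8<|a 20<|a 20<|a 2<|
 c));
 (let c:=(a 36<|a 50<|a 36<|a 71<|a 71<|a 2<|c);
 (a 36<|a 50<|a 50<|a 71<|a 71<|c))));
 (let c:=(let c:=(let c:=(a 36<|a 36<|a 43<|a 36<|a 50<|a 50<|c);
 (a 71<|a 50<|a 36<|a 43<|a 36<|a 50<|c));
 (let c:=(a 0<|a 0<|a 0<|a 0<|a 0<|
 a 71<|c);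
 (a 50<|a 71<|a 71<|a 50<|a 71<|a 0<|c)));
 (let c:=(let c:=(a 36<|a 36<|a 36<|a 36<|a 50<|a 50<|c);
 (a 71<|a 20<|a 43<|a 43<|a 36<|a 50<|c));
 (let c:=(a 50<|a 0<|a 50<|a 71<|a 71<|a 27<|c);
 (d 0<|d 50<|d 71<|d 0<|
 d 0<|c))))) (d (b 0<|b 15<|b (d (b 1 50)<|e) e)<|d (b 1<|b 7<|b (d (b 1 50)<|e) e)<|d (b 2<|b 9<|b (d (b 1 14)<|e) (d (b 2 19667)<|d (b 12 2)<|d (b 17 2)<|e))<|d (b 8<|b 3<|b e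
 e)<|d (b 9<|b 4<|b (d (b 1 20)<|e) (d (b 9 77)<|d (b 37 80)<|e))<|d (b 10<|b 5<|b (d (b 1 28)<|e) (d (b 10 8)<|d (b 47 2)<|e))<|d (b 11<|b 4<|b (d (b 1 7)<|e) (d (b 11 79)<|
 d (b 54 1)<|e))<|d (b 23<|b 3<|b e e)<|d (b 24<|b 3<|b e e)<|d (b 26<|b 3<|b e e)<|d (b 34<|b 3<|b e e)<|d (b 35<|b 3<|b e e)<|d (b 36<|b 3<|b (d (b 1 1)<|e)
 e)<|d (b 49<|b 3<|b e e)<|d (b 56<|b 3<|b e e)<|d (b 70<|b 3<|b e e)<|d (b 80<|b 3<|b e e)<|e) (d (b 0 e)<|d (b 1 (d 8<|d 7<|e))<|d (b 2 (d 30<|d 2<|e))<|d (b 9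
 (d 45<|d 9<|d 4<|e))<|d (b 10 (d 27<|e))<|d (b 11 (d 30<|d 2<|d 1<|e))<|e)) :
 Cfsg.Agent.KM.Sp.Ct),
    by ((try (rewrite [Cfsg.Agent.LsF.f4dac25_14.2, Cfsg.Agent.LsF.f4dac25_23.2])); decide +kernel)⟩

theorem okFi24_7 : Ok F24.DT F24.tabT [] 7 3 [] :=
    ⟨(beta% delta% lq262970fa6c fun a b d e f =>
 (f 3 (let c:=(let c:=(let c:=(let c:=(a 0<|a 0<|a 1<|a 2<|a 0<|a 0<|e);
 (a 0<|a 0<|a 1<|a 0<|a 0<|a 0<|c));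
 (let c:=(a 0<|a 0<|a 0<|a 1<|a 0<|a 0<|c);
 (a 0<|a 0<|a 0<|a 0<|
 a 0<|a 0<|c)));
 (let c:=(let c:=(a 0<|a 0<|a 1<|a 1<|a 2<|a 0<|c);
 (a 0<|a 0<|a 0<|a 0<|a 0<|a 0<|c));
 (let c:=(a 0<|a 0<|a 0<|a 0<|a 0<|a 0<|c);
 (a 0<|a 0<|a 0<|a 1<|a 2<|c))));
 (let c:=(let c:=(let c:=(a 0<|a 0<|a 0<|a 0<|a 0<|a 0<|c);
 (a 0<|
 a 0<|a 0<|a 0<|a 0<|a 0<|c));
 (let c:=(a 0<|a 0<|a 0<|a 0<|a 0<|a 0<|c);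
 (a 2<|a 3<|a 0<|a 0<|a 0<|a 0<|c)));
 (let c:=(let c:=(a 0<|a 0<|a 0<|a 1<|a 1<|a 0<|c);
 (a 1<|a 0<|a 0<|a 0<|a 0<|a 0<|c));
 (let c:=(a 1<|a 0<|a 1<|a 0<|a 1<|a 0<|c);
 (d 3<|d 1<|d 1<|d 0<|d 1<|c))))) (let c:=(let c:=(let c:=(let c:=(a 17<|a 17<|a 2<|a 20<|a 7<|a 26<|e);
 (a 7<|a 14<|a 2<|a 7<|a 7<|a 14<|
 c));
 (let c:=(a 21<|a 7<|a 7<|a 4<|a 32<|a 18<|c);
 (a 14<|a 7<|a 7<|a 7<|a 17<|a 7<|c)));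
 (let c:=(let c:=(a 7<|a 7<|a 2<|a 2<|a 20<|a 14<|c);
 (a 7<|a 7<|a 7<|a 7<|a 7<|a 7<|c));
 (let c:=(a 7<|
 a 7<|a 7<|a 7<|a 7<|a 7<|c);
 (a 7<|a 7<|a 17<|a 2<|a 20<|c))));
 (let c:=(let c:=(let c:=(a 7<|a 7<|a 14<|a 7<|a 7<|a 7<|c);
 (a 14<|a 14<|a 7<|a 17<|a 7<|a 7<|c));
 (let c:=(a 7<|a 7<|a 7<|a 7<|a 7<|a 7<|c);
 (a 2<|a 0<|a 7<|a 7<|a 7<|a 7<|c)));
 (let c:=(let c:=(a 7<|a 7<|a 7<|a 7<|a 2<|a 7<|c);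
 (a 2<|a 7<|a 7<|a 7<|a 7<|a 7<|
 c));
 (let c:=(a 2<|a 7<|a 2<|a 7<|a 4<|a 7<|c);
 (d 0<|d 7<|d 2<|d 7<|d 7<|c))))) (d (b 0<|b 3<|b (d (b 1 1)<|e) (d (b 0 341)<|e))<|d (b 1<|b 3<|b e e)<|d (b 2<|b 3<|b e e)<|d (b 3<|b 3<|b e e)<|d (b 4<|b 3<|b e
 e)<|d (b 5<|b 3<|b e e)<|d (b 6<|b 3<|b e e)<|d (b 7<|b 3<|b e e)<|d (b 11<|b 3<|b e e)<|d (b 36<|b 3<|b e e)<|d (b 49<|b 3<|b e e)<|d (b 56<|b 3<|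
 b e e)<|d (b 70<|b 3<|b e e)<|d (b 80<|b 3<|b e e)<|e) e) :
 Cfsg.Agent.KM.Sp.Ct),
    by ((try (rewrite [Cfsg.Agent.LsF.f4dac25_14.2, Cfsg.Agent.LsF.f4dac25_23.2])); decide +kernel)⟩

private noncomputable def _root_.Cfsg.Agent.LsF.f4dac25_24 : {f // @Cfsg.Agent.TAB.HN.dz = f} := ⟨_, by first | (delta Cfsg.Agent.TAB.HN.dz; rewrite [Cfsg.Agent.LsF.ndiv_pat, Cfsg.Agent.LsF.nmod_pat, Cfsg.Agent.LsF.ineg_pat, Cfsg.Agent.LsF.icast_pat, Cfsg.Agent.LsF.instDecEq_eq, Cfsg.Agent.LsF.ite_eq]; exact rfl) | exact rfl⟩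
private noncomputable def _root_.Cfsg.Agent.LsF.f4dac25_25 : {f // @Cfsg.Agent.TAB.HN.rr = f} := ⟨_, by first | (delta Cfsg.Agent.TAB.HN.rr; rewrite [Cfsg.Agent.LsF.f4dac25_24.2, Cfsg.Agent.LsF.map_eq]; exact rfl) | exact rfl⟩
private noncomputable def _root_.Cfsg.Agent.LsF.f4dac25_26 : {f // @Cfsg.Agent.TAB.HN.rows = f} := ⟨_, by first | (delta Cfsg.Agent.TAB.HN.rows; rewrite [Cfsg.Agent.LsF.f4dac25_25.2, Cfsg.Agent.LsF.zip_eq]; exact rfl) | exact rfl⟩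
theorem okHN_2 : Ok HN.dat HN.rows [] 2 5 [] :=
    ⟨(beta% delta% lq262970fa6c fun a b d e f =>
 (f 14 (let c:=(let c:=(let c:=(a 2<|a 0<|a 4<|a 6<|a 0<|a 4<|e);
 (a 2<|
 a 10<|a 4<|a 11<|a 0<|c));
 (let c:=(a 5<|a 10<|a 13<|a 3<|a 2<|a 1<|c);
 (a 8<|a 7<|a 3<|a 6<|a 2<|c)));
 (let c:=(let c:=(a 2<|a 6<|a 14<|a 1<|a 5<|a 4<|c);
 (a 4<|a 2<|a 6<|a 8<|a 7<|c));
 (let c:=(a 14<|a 8<|a 14<|a 4<|a 6<|c);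
 (d 14<|d 11<|d 14<|d 6<|d 3<|c)))) (let c:=(let c:=(let c:=(a 33<|a 35<|a 11<|a 12<|a 35<|a 11<|e);
 (a 33<|a 3<|a 11<|a 36<|a 35<|c));
 (let c:=(a 11<|a 3<|a 14<|a 33<|a 35<|a 35<|c);
 (a 12<|a 31<|a 33<|a 12<|a 33<|c)));
 (let c:=(let c:=(a 35<|a 11<|a 0<|a 35<|a 33<|a 11<|
 c);
 (a 35<|a 35<|a 11<|a 12<|a 31<|c));
 (let c:=(a 0<|a 11<|a 0<|a 11<|a 33<|c);
 (d 0<|d 11<|d 0<|d 35<|d 35<|c)))) (d (b 0<|b 11<|b (d (b (-684) 2)<|d (b 683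
 5)<|d (b 1 6)<|e) (d (b 0 1463)<|d (b 2 2039)<|d (b 5 1367)<|e))<|d (b 3<|b 5<|b (d (b 1 12)<|e) (d (b 3 4)<|e))<|d (b 4<|b 5<|b e e)<|d (b 8<|b 5<|b e e)<|d (b 9<|
 b 5<|b (d (b 1 13)<|e) (d (b 9 5)<|d (b 21 1)<|e))<|d (b 10<|b 5<|b e e)<|d (b 11<|b 5<|b e e)<|d (b 15<|b 5<|b e e)<|d (b 25<|b 5<|b e e)<|d (b 32<|b 5<|b e
 e)<|e) (d (b 0 e)<|e)) :
 Cfsg.Agent.KM.Sp.Ct),
    by ((try (rewrite [Cfsg.Agent.LsF.f4dac25_14.2, Cfsg.Agent.LsF.f4dac25_26.2, Cfsg.Agent.LsF.ineg_pat])); decide +kernel)⟩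

theorem okHN_3 : Ok HN.dat HN.rows [] 3 3 [] :=
    ⟨(beta% delta% lq262970fa6c fun a b d e f =>
 (f 6 (let c:=(let c:=(let c:=(a 0<|a 0<|a 1<|a 3<|a 0<|a 0<|e);
 (a 0<|a 0<|a 0<|a 0<|
 a 1<|c));
 (let c:=(a 2<|a 1<|a 4<|a 0<|a 2<|a 3<|c);
 (a 0<|a 1<|a 0<|a 0<|a 0<|c)));
 (let c:=(let c:=(a 1<|a 0<|a 0<|a 6<|a 0<|a 1<|c);
 (a 1<|a 0<|a 2<|a 2<|a 4<|c));
 (let c:=(a 1<|a 2<|a 1<|a 2<|a 0<|c);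
 (d 6<|d 2<|d 2<|d 5<|d 6<|c)))) (let c:=(let c:=(let c:=(a 33<|a 33<|a 16<|a 31<|a 33<|a 41<|e);
 (a 33<|a 36<|a 41<|a 36<|a 16<|c));
 (let c:=(a 5<|a 16<|a 6<|a 33<|a 5<|a 31<|c);
 (a 36<|a 36<|a 33<|a 36<|
 a 33<|c)));
 (let c:=(let c:=(a 16<|a 41<|a 41<|a 0<|a 33<|a 16<|c);
 (a 33<|a 36<|a 5<|a 16<|a 6<|c));
 (let c:=(a 16<|a 5<|a 36<|a 5<|a 33<|c);
 (d 0<|d 5<|d 16<|d 5<|d 0<|c)))) (d (b 0<|b 6<|b (d (b 1 1)<|e) (d (b 0 725)<|d (b 4 2)<|e))<|d (b 1<|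
 b 3<|b e e)<|d (b 2<|b 3<|b e e)<|d (b 8<|b 3<|b e e)<|d (b 9<|b 3<|b e e)<|d (b 10<|b 3<|b e e)<|d (b 11<|b 3<|b e e)<|d (b 15<|b 3<|b e e)<|
 d (b 25<|b 3<|b e e)<|d (b 32<|b 3<|b e e)<|e) (d (b 0 e)<|e)) :
 Cfsg.Agent.KM.Sp.Ct),
    by ((try (rewrite [Cfsg.Agent.LsF.f4dac25_14.2, Cfsg.Agent.LsF.f4dac25_26.2])); decide +kernel)⟩

theorem okHN_5 : Ok HN.dat HN.rows [] 5 3 [] :=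
    ⟨(beta% delta% lq262970fa6c fun a b d e f =>
 (f 6 (let c:=(let c:=(let c:=(a 0<|a 6<|a 1<|a 5<|a 1<|a 1<|e);
 (a 1<|a 3<|a 1<|a 5<|
 a 0<|c));
 (let c:=(a 0<|a 0<|a 0<|a 0<|a 1<|a 5<|c);
 (a 4<|a 5<|a 5<|a 5<|a 0<|c)));
 (let c:=(let c:=(a 1<|a 1<|a 0<|a 0<|a 4<|a 2<|c);
 (a 6<|a 6<|a 1<|a 0<|a 1<|c));
 (let c:=(a 1<|a 1<|a 1<|a 4<|a 6<|c);
 (d 6<|d 3<|d 2<|d 1<|d 1<|c)))) (let c:=(let c:=(let c:=(a 29<|a 0<|a 17<|a 2<|a 17<|a 17<|e);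
 (a 32<|a 14<|a 17<|a 5<|a 29<|c));
 (let c:=(a 37<|a 29<|a 37<|a 29<|a 17<|a 2<|c);
 (a 14<|a 2<|a 2<|
 a 2<|a 29<|c)));
 (let c:=(let c:=(a 17<|a 17<|a 37<|a 29<|a 14<|a 17<|c);
 (a 0<|a 0<|a 17<|a 29<|a 37<|c));
 (let c:=(a 29<|a 17<|a 37<|a 17<|a 0<|c);
 (d 0<|d 17<|d 29<|d 17<|d 29<|c)))) (d (b 0<|b 6<|b (d (b 1 17)<|e) e)<|d (b 1<|b 3<|b (d (b 1 3)<|e)
 (d (b 1 1)<|e))<|d (b 2<|b 3<|b e e)<|d (b 3<|b 3<|b e e)<|d (b 4<|b 3<|b e e)<|d (b 15<|b 3<|b e e)<|d (b 25<|b 3<|b e e)<|d (b 32<|b 3<|b e e)<|e)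
 (d (b 0 e)<|e)) :
 Cfsg.Agent.KM.Sp.Ct),
    by ((try (rewrite [Cfsg.Agent.LsF.f4dac25_14.2, Cfsg.Agent.LsF.f4dac25_26.2])); decide +kernel)⟩

theorem okTh_2 : Ok Th.D (mkRows Th.rowA Th.rowB) [] 2 5 [] :=
    ⟨(beta% delta% lq262970fa6c fun a b d e f =>
 (f 15 (let c:=(let c:=(let c:=(a 6<|a 0<|a 9<|a 9<|a 0<|e);
 (a 12<|a 14<|a 0<|
 a 0<|a 9<|c));
 (let c:=(a 7<|a 6<|a 6<|a 11<|a 6<|c);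
 (a 9<|a 12<|a 0<|a 7<|a 1<|c)));
 (let c:=(let c:=(a 5<|a 0<|a 2<|a 8<|a 11<|c);
 (a 9<|a 7<|a 7<|a 15<|a 15<|c));
 (let c:=(a 5<|a 15<|a 15<|a 3<|a 8<|c);
 (d 15<|d 15<|d 7<|d 3<|c)))) (let c:=(let c:=(let c:=(a 21<|a 19<|a 8<|a 8<|a 19<|e);
 (a 12<|a 6<|a 19<|a 19<|a 8<|c));
 (let c:=(a 21<|
 a 21<|a 25<|a 16<|a 25<|c);
 (a 8<|a 16<|a 19<|a 25<|a 19<|c)));
 (let c:=(let c:=(a 19<|a 19<|a 19<|a 21<|a 8<|c);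
 (a 21<|a 21<|a 25<|a 0<|a 0<|c));
 (let c:=(a 19<|a 0<|a 0<|a 19<|a 21<|c);
 (d 0<|d 0<|d 19<|d 19<|c)))) (d (b 0<|b 11<|b (d (b (-772) 1)<|d (b 1 2)<|e) (d (b 0 59)<|d (b 1 2043)<|d (b 5 3)<|
 d (b 6 2047)<|e))<|d (b 2<|b 5<|b (d (b 1 1)<|e) (d (b 2 30)<|d (b 9 2)<|e))<|d (b 3<|b 5<|b e e)<|d (b 4<|b 5<|b (d (b 1 1)<|e) (d (b 4 4)<|e))<|d (b 7<|b 5<|b e e)<|d (b 11<|
 b 5<|b (d (b 1 1)<|e) (d (b 11 31)<|d (b 22 1)<|e))<|d (b 21<|b 5<|b e e)<|d (b 26<|b 5<|b e (d (b 26 1)<|e))<|d (b 35<|b 5<|b e e)<|e) (d (b 0 e)<|e)) :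
 Cfsg.Agent.KM.Sp.Ct),
    by ((try (rewrite [Cfsg.Agent.LsF.f4dac25_14.2, Cfsg.Agent.LsF.f4dac25_18.2, Cfsg.Agent.LsF.ineg_pat])); decide +kernel)⟩

theorem okTh_3 : Ok Th.D (mkRows Th.rowA Th.rowB) [(5, 774144)] 3 2 [] :=
    ⟨(beta% delta% lq262970fa6c fun a b d e f =>
 (f 10 (let c:=(let c:=(let c:=(a 7<|a 0<|a 8<|a 8<|a 1<|e);
 (a 1<|a 7<|a 10<|a 10<|
 a 0<|c));
 (let c:=(a 9<|a 9<|a 0<|a 0<|a 1<|c);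
 (a 6<|a 7<|a 1<|a 0<|a 7<|c)));
 (let c:=(let c:=(a 10<|a 10<|a 10<|a 1<|a 2<|c);
 (a 3<|a 7<|a 1<|a 1<|a 1<|c));
 (let c:=(a 10<|a 3<|a 1<|a 1<|a 8<|c);
 (d 10<|d 4<|d 7<|d 10<|c)))) (let c:=(let c:=(let c:=(a 16<|a 23<|a 10<|a 10<|a 12<|e);
 (a 12<|a 22<|a 0<|a 0<|a 23<|c));
 (let c:=(a 9<|
 a 9<|a 29<|a 23<|a 12<|c);
 (a 27<|a 16<|a 12<|a 23<|a 16<|c)));
 (let c:=(let c:=(a 0<|a 0<|a 0<|a 23<|a 12<|c);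
 (a 12<|a 27<|a 12<|a 12<|a 23<|c));
 (let c:=(a 0<|a 12<|a 23<|a 23<|a 16<|c);
 (d 0<|d 12<|d 12<|d 0<|c)))) (d (b 0<|b 8<|b (d (b (-1360) 15)<|d (b 1 31)<|e) (d (b 0 54)<|e))<|d (b 1<|b 4<|b (d (b 1
 12)<|e) e)<|d (b 5<|b 3<|b (d (b 1 1)<|e) (d (b 5 26)<|d (b 19 26)<|e))<|d (b 6<|b 2<|b e e)<|d (b 7<|b 2<|b e e)<|d (b 11<|b 2<|b e e)<|d (b 12<|b 2<|b e
 e)<|d (b 21<|b 2<|b e e)<|d (b 26<|b 2<|b e e)<|d (b 35<|b 2<|b e e)<|e) (d (b 0 e)<|d (b 1 (d 4<|d 2<|e))<|d (b 5 (d 19<|e))<|e)) :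
 Cfsg.Agent.KM.Sp.Ct),
    by ((try (rewrite [Cfsg.Agent.LsF.f4dac25_14.2, Cfsg.Agent.LsF.f4dac25_18.2, Cfsg.Agent.LsF.ineg_pat])); decide +kernel)⟩

end Cfsg.Agent.KM.Sp
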