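import Cfsg.Agent.KM.Easy_m3
import Cfsg.Agent.PQ.Spor.Tabs
import Cfsg.Agent.Lib.FinFast
import Cfsg.Agent.TH.Spor.J3Tab
import Cfsg.Agent.Prune
set_option linter.all false

section
prune_inst 0x7f00000000000000000000000000000000000000000000000000000000000000000000000000000000000000000000000000000000000000000000000000000000000000000000000000000000000000003fffffffffffffffffffffffffffbeffbdffffffff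

-- part: KM/Sp/CtC
section
set_option linter.all false

/-!
# KM, sporadic rows: certificates (helper67)
-/

set_option autoImplicit false
set_option maxRecDepth 100000

namespace Cfsg.Agent.KM.Sp

open Cfsg Cfsg.Agent.TAB Cfsg.Agent.TAB.Eng Cfsg.Agent.TAB.Use
open Cfsg.Agent.TAB.Sm2 (mkRows)

private noncomputable def _root_.Cfsg.Agent.LsF.f0eea50_0 : {f // @Cfsg.Agent.KM.Sp.rl = f} := ⟨_, by first | (delta Cfsg.Agent.KM.Sp.rl; rewrite [Cfsg.Agent.LsF.getD_eq]; exact rfl) | exact rfl⟩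
private noncomputable def _root_.Cfsg.Agent.LsF.f0eea50_1 : {f // @Cfsg.Agent.TAB.Use.Rows.n = f} := ⟨_, by first | (delta Cfsg.Agent.TAB.Use.Rows.n; rewrite [Cfsg.Agent.LsF.length_eq]; exact rfl) | exact rfl⟩
private noncomputable def _root_.Cfsg.Agent.LsF.f0eea50_2 : {f // @Cfsg.Agent.TAB.Use.Rows.d = f} := ⟨_, by first | (delta Cfsg.Agent.TAB.Use.Rows.d; rewrite [Cfsg.Agent.LsF.getD_eq]; exact rfl) | exact rfl⟩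
private noncomputable def _root_.Cfsg.Agent.LsF.f0eea50_3 : {f // @Cfsg.Agent.TAB.Eng.look = f} := ⟨_, by first | (delta Cfsg.Agent.TAB.Eng.look List.brecOn List.brecOn.go Cfsg.Agent.TAB.Eng.look._f; rewrite [Cfsg.Agent.LsF.instDecEq_eq, Cfsg.Agent.LsF.ite_eq]; (try delta Cfsg.Agent.TAB.Eng.look.match_1); (try delta List.casesOn); first | dsimp -zeta only | exact rfl) | exact rfl⟩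
private noncomputable def _root_.Cfsg.Agent.LsF.f0eea50_4 : {f // @Cfsg.Agent.KM.Sp.cbd = f} := ⟨_, by first | (delta Cfsg.Agent.KM.Sp.cbd; rewrite [Cfsg.Agent.LsF.f0eea50_0.2, Cfsg.Agent.LsF.f0eea50_1.2, Cfsg.Agent.LsF.f0eea50_2.2, Cfsg.Agent.LsF.f0eea50_3.2, Cfsg.Agent.LsF.nmul_pat, Cfsg.Agent.LsF.ndiv_pat, Cfsg.Agent.LsF.dProdEq_eq, Cfsg.Agent.LsF.instDecEq_eq, Cfsg.Agent.LsF.decLt_eq, Cfsg.Agent.LsF.getD_eq, Cfsg.Agent.LsF.headD_eq, Cfsg.Agent.LsF.natAbs_eq, Cfsg.Agent.LsF.instIDecEq_eq, Cfsg.Agent.LsF.dAnd_eq, Cfsg.Agent.LsF.dNot_eq, Cfsg.Agent.LsF.dListEq_eq, Cfsg.Agent.LsF.ite_eq]; exact rfl) | exact rfl⟩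
private noncomputable def _root_.Cfsg.Agent.LsF.f0eea50_5 : {f // @Cfsg.Agent.KM.Sp.ubB = f} := ⟨_, by first | (delta Cfsg.Agent.KM.Sp.ubB; rewrite [Cfsg.Agent.LsF.f0eea50_4.2, Cfsg.Agent.LsF.nadd_pat, Cfsg.Agent.LsF.nmod_pat, Cfsg.Agent.LsF.npow_pat, Cfsg.Agent.LsF.nbne_pat, Cfsg.Agent.LsF.all_eq, Cfsg.Agent.LsF.range_eq, Cfsg.Agent.LsF.getD_eq]; exact rfl) | exact rfl⟩
private noncomputable def _root_.Cfsg.Agent.LsF.f0eea50_6 : {f // @Cfsg.Agent.KM.Sp.psi = f} := ⟨_, by first | (delta Cfsg.Agent.KM.Sp.psi; rewrite [Cfsg.Agent.LsF.f0eea50_0.2, Cfsg.Agent.LsF.imul_pat, Cfsg.Agent.LsF.map_eq, Cfsg.Agent.LsF.sum_eq, Cfsg.Agent.LsF.getD_eq, Cfsg.Agent.LsF.instIAdd_eq]; exact rfl) | exact rfl⟩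
private noncomputable def _root_.Cfsg.Agent.LsF.f0eea50_7 : {f // @Cfsg.Agent.TAB.Eng.Dat.pw = f} := ⟨_, by first | (delta Cfsg.Agent.TAB.Eng.Dat.pw; rewrite [Cfsg.Agent.LsF.getD_eq]; exact rfl) | exact rfl⟩
private noncomputable def _root_.Cfsg.Agent.LsF.f0eea50_8 : {f // @Cfsg.Agent.TAB.Eng.Dat.ord = f} := ⟨_, by first | (delta Cfsg.Agent.TAB.Eng.Dat.ord; rewrite [Cfsg.Agent.LsF.getD_eq]; exact rfl) | exact rfl⟩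
private noncomputable def _root_.Cfsg.Agent.LsF.f0eea50_9 : {f // @Cfsg.Agent.TAB.Eng.Dat.pwf = f} := ⟨_, by first | (delta Cfsg.Agent.TAB.Eng.Dat.pwf; rewrite [Cfsg.Agent.LsF.f0eea50_3.2, Cfsg.Agent.LsF.f0eea50_7.2, Cfsg.Agent.LsF.f0eea50_8.2]; exact rfl) | exact rfl⟩
private noncomputable def _root_.Cfsg.Agent.LsF.f0eea50_10 : {f // @Cfsg.Agent.KM.Sp.killB = f} := ⟨_, by first | (delta Cfsg.Agent.KM.Sp.killB; rewrite [Cfsg.Agent.LsF.f0eea50_0.2, Cfsg.Agent.LsF.f0eea50_1.2, Cfsg.Agent.LsF.f0eea50_6.2, Cfsg.Agent.LsF.f0eea50_3.2, Cfsg.Agent.LsF.f0eea50_9.2, Cfsg.Agent.LsF.f0eea50_8.2, Cfsg.Agent.LsF.f0eea50_7.2, Cfsg.Agent.LsF.nmod_pat, Cfsg.Agent.LsF.npow_pat, Cfsg.Agent.LsF.nbeq_pat, Cfsg.Agent.LsF.nbne_pat, Cfsg.Agent.LsF.instNBEq_pat, Cfsg.Agent.LsF.isub_pat,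 Cfsg.Agent.LsF.imod_pat, Cfsg.Agent.LsF.icast_pat, Cfsg.Agent.LsF.ibeq_pat, Cfsg.Agent.LsF.instIBEq_pat, Cfsg.Agent.LsF.and_eq, Cfsg.Agent.LsF.or_eq, Cfsg.Agent.LsF.decLt_eq, Cfsg.Agent.LsF.all_eq, Cfsg.Agent.LsF.any_eq, Cfsg.Agent.LsF.contains_eq, Cfsg.Agent.LsF.range_eq, Cfsg.Agent.LsF.getD_eq, Cfsg.Agent.LsF.bne_eq, Cfsg.Agent.LsF.decide_eq]; exact rfl) | exact rfl⟩
private noncomputable def _root_.Cfsg.Agent.LsF.f0eea50_11 : {f // @Cfsg.Agent.TAB.Eng.Dat.cnt = f} := ⟨_, by first | (delta Cfsg.Agent.TAB.Eng.Dat.cnt; rewrite [Cfsg.Agent.LsF.getD_eq]; exact rfl) | exact rfl⟩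
private noncomputable def _root_.Cfsg.Agent.LsF.f0eea50_12 : {f // @Cfsg.Agent.KM.Sp.cbg = f} := ⟨_, by first | (delta Cfsg.Agent.KM.Sp.cbg; rewrite [Cfsg.Agent.LsF.f0eea50_4.2, Cfsg.Agent.LsF.foldr_eq]; exact rfl) | exact rfl⟩
private noncomputable def _root_.Cfsg.Agent.LsF.f0eea50_13 : {f // @Cfsg.Agent.KM.Sp.lbB = f} := ⟨_, by first | (delta Cfsg.Agent.KM.Sp.lbB; rewrite [Cfsg.Agent.LsF.f0eea50_11.2, Cfsg.Agent.LsF.f0eea50_12.2, Cfsg.Agent.LsF.nmul_pat, Cfsg.Agent.LsF.nsub_pat, Cfsg.Agent.LsF.ndiv_pat, Cfsg.Agent.LsF.npow_pat, Cfsg.Agent.LsF.decLt_eq, Cfsg.Agent.LsF.decide_eq]; exact rfl) | exact rfl⟩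
private noncomputable def _root_.Cfsg.Agent.LsF.f0eea50_14 : {f // @Cfsg.Agent.KM.Sp.chk = f} := ⟨_, by first | (delta Cfsg.Agent.KM.Sp.chk; rewrite [Cfsg.Agent.LsF.f0eea50_5.2, Cfsg.Agent.LsF.f0eea50_10.2, Cfsg.Agent.LsF.f0eea50_8.2, Cfsg.Agent.LsF.f0eea50_7.2, Cfsg.Agent.LsF.f0eea50_9.2, Cfsg.Agent.LsF.f0eea50_13.2, Cfsg.Agent.LsF.nadd_pat, Cfsg.Agent.LsF.nmod_pat, Cfsg.Agent.LsF.npow_pat, Cfsg.Agent.LsF.nbeq_pat, Cfsg.Agent.LsF.nbne_pat, Cfsg.Agent.LsF.and_eq, Cfsg.Agent.LsF.or_eq, Cfsg.Agent.LsF.decLe_eq, Cfsg.Agent.LsF.all_eq, Cfsg.Agent.LsF.any_eq, Cfsg.Agent.LsF.range_eq, Cfsg.Agent.LsF.decide_eq]; exact rfl) | exact rfl⟩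
private noncomputable def _root_.Cfsg.Agent.LsF.f0eea50_15 : {f // @Cfsg.Agent.TAB.Sm2.rw' = f} := ⟨_, by first | (delta Cfsg.Agent.TAB.Sm2.rw'; rewrite [Cfsg.Agent.LsF.lappend_pat, Cfsg.Agent.LsF.getD_eq]; exact rfl) | exact rfl⟩
private noncomputable def _root_.Cfsg.Agent.LsF.f0eea50_16 : {f // @Cfsg.Agent.TAB.Sm2.wt = f} := ⟨_, by first | (delta Cfsg.Agent.TAB.Sm2.wt; rewrite [Cfsg.Agent.LsF.f0eea50_15.2, Cfsg.Agent.LsF.imul_pat, Cfsg.Agent.LsF.decLt_eq, Cfsg.Agent.LsF.length_eq, Cfsg.Agent.LsF.ite_eq]; exact rfl) | exact rfl⟩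
private noncomputable def _root_.Cfsg.Agent.LsF.f0eea50_17 : {f // @Cfsg.Agent.TAB.Sm2.ro = f} := ⟨_, by first | (delta Cfsg.Agent.TAB.Sm2.ro; rewrite [Cfsg.Agent.LsF.nadd_pat, Cfsg.Agent.LsF.nsub_pat, Cfsg.Agent.LsF.ndiv_pat, Cfsg.Agent.LsF.decLt_eq, Cfsg.Agent.LsF.length_eq, Cfsg.Agent.LsF.ite_eq]; exact rfl) | exact rfl⟩
private noncomputable def _root_.Cfsg.Agent.LsF.f0eea50_18 : {f // @Cfsg.Agent.TAB.Sm2.mkRows = f} := ⟨_, by first | (delta Cfsg.Agent.TAB.Sm2.mkRows; rewrite [Cfsg.Agent.LsF.f0eea50_16.2, Cfsg.Agent.LsF.f0eea50_17.2, Cfsg.Agent.LsF.f0eea50_15.2, Cfsg.Agent.LsF.nadd_pat, Cfsg.Agent.LsF.nmul_pat, Cfsg.Agent.LsF.ndiv_pat, Cfsg.Agent.LsF.lappend_pat, Cfsg.Agent.LsF.map_eq, Cfsg.Agent.LsF.range_eq, Cfsg.Agent.LsF.toNat_eq, Cfsg.Agent.LsF.length_eq];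 exact rfl) | exact rfl⟩
private noncomputable def _root_.Cfsg.Agent.LsF.f0eea50_19 : {f // @Cfsg.Agent.TAB.Eng.rwL = f} := ⟨_, by first | (delta Cfsg.Agent.TAB.Eng.rwL; rewrite [Cfsg.Agent.LsF.map_eq]; exact rfl) | exact rfl⟩
private noncomputable def _root_.Cfsg.Agent.LsF.f0eea50_20 : {f // @Cfsg.Agent.TAB.B.Bes.rowsL = f} := ⟨_, by first | (delta Cfsg.Agent.TAB.B.Bes.rowsL; rewrite [Cfsg.Agent.LsF.f0eea50_19.2, Cfsg.Agent.LsF.map_eq, Cfsg.Agent.LsF.range'_eq]; exact rfl) | exact rfl⟩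
private noncomputable def _root_.Cfsg.Agent.LsF.f0eea50_21 : {f // @Cfsg.Agent.TAB.B.Fin.tabB = f} := ⟨_, by first | (delta Cfsg.Agent.TAB.B.Fin.tabB; rewrite [Cfsg.Agent.LsF.f0eea50_18.2, Cfsg.Agent.LsF.f0eea50_20.2]; exact rfl) | exact rfl⟩
theorem okB_2 : Ok B.Fin.datF B.Fin.tabB [] 2 5 [] :=
    ⟨⟨41, [41, 39, 41, 27, 41, 19, 13, 41, 41, 41, 38, 41, 41, 38, 41, 15, 41, 10, 9, 18, 15, 24, 12, 26, 12, 21, 26,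
    26, 23, 9, 9, 41, 34, 34, 41, 34, 41, 41, 41, 41, 41, 41, 32, 41, 36, 5, 5, 9, 18, 7, 16, 21, 21, 5, 30, 30, 30,
    30, 29, 31, 30, 29, 32, 30, 29, 29, 29, 29, 32, 34, 33, 33, 32, 6, 3, 9, 6, 6, 20, 20, 5, 18, 40, 40, 41, 41, 41,
    41, 41, 3, 5, 14, 18, 18, 4, 3, 26, 26, 26, 26, 26, 26, 27, 5, 29, 31, 3, 4, 13, 12, 28, 34, 28, 28, 28, 35, 34,
    37, 36, 37, 35, 36, 32, 36, 2, 3, 3, 2, 26, 26, 26, 26, 26, 5, 4, 4, 18, 14, 18, 13, 2, 41, 41, 3, 3, 3, 3, 24,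
    25, 25, 3, 2, 26, 26, 26, 26, 35, 3, 3, 3, 23, 12, 2, 36, 36, 3, 3, 32, 24, 25, 25, 3, 3, 41, 4], [0, 150, 0, 106,
    0, 106, 106, 0, 0, 0, 59, 0, 0, 59, 0, 150, 0, 106, 106, 150, 150, 130, 150, 161, 106, 130, 161, 161, 161, 106,
    106, 0, 59, 59, 0, 59, 0, 0, 0, 0, 0, 0, 59, 0, 49, 106, 106, 150, 130, 106, 130, 161, 161, 150, 100, 89, 100, 89,
    59, 89, 89, 59, 58, 89, 75, 59, 89, 89, 99, 19, 49, 120, 120, 150, 106, 150, 150, 106, 161, 161, 106, 161, 16, 16,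
    0, 0, 0, 0, 0, 106, 150, 130, 161, 161, 106, 150, 59, 100, 59, 59, 59, 59, 89, 150, 99, 120, 106, 150, 130, 130,
    59, 19, 59, 59, 59, 42, 19, 34, 16, 64, 152, 16, 49, 126, 106, 106, 150, 106, 89, 89, 75, 75, 89, 150, 150, 106,
    161, 130, 161, 130, 106, 0, 0, 150, 150, 106, 106, 100, 75, 89, 150, 106, 59, 59, 59, 59, 34, 150, 150, 106, 100,
    130, 106, 16, 16, 150, 150, 42, 100, 75, 89, 150, 150, 0, 150], [(0, 35, [(-8458737700, 1), (10425524071, 2),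
    (6604246197, 3), (-16060559770, 4), (-86109521, 6), (2766255256, 7), (-15263553088, 8), (13085634566, 9),
    (6355955112, 10), (-2622757616, 11), (11310418809, 12), (7067629884, 14), (-15758004947, 15), (9778245091, 16),
    (-11362597180, 18), (-3340269215, 19), (9835965038, 20), (-10589331711, 21), (1, 22)], [(0, 22887767240), (2,
    25407130824), (4, 730129352), (9, 9085539528), (11, 22970054104), (12, 6710856872), (14, 30175337144), (16,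
    453484368), (34, 29657253488), (38, 8155948232), (43, 11037512132), (40, 22058576044), (85, 20073776328), (84,
    17301909556)]), (5, 16, [(-23035, 1), (-31658, 2), (30127, 3), (-10834, 4), (-20984, 6), (9393, 7), (-23210, 8),
    (-26540, 9), (26196, 10), (9302, 11), (32254, 14), (-23722, 15), (-27992, 16), (9386, 17), (-13654, 18), (-24577,
    19), (1, 27)], [(5, 28040), (21, 38408), (26, 16616), (57, 44504), (60, 64328), (63, 63656), (116, 15864)]), (6,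
    11, [(-553, 1), (816, 2), (239, 3), (-752, 4), (621, 6), (460, 7), (-296, 8), (400, 9), (188, 10), (-478, 14), (1,
    30)], [(6, 302), (25, 1278), (27, 910), (28, 502), (66, 1342), (59, 526), (70, 286), (71, 382), (68, 1574)]), (17,
    9, [(1, 106)], []), (18, 6, [(1, 83)], [(18, 24)]), (30, 8, [(1, 106)], []), (45, 5, [(1, 1)], [(45, 1), (93,
    31)]), (46, 5, [(1, 5)], [(46, 31), (91, 31)]), (53, 5, [(1, 1)], []), (74, 5, [], []), (80, 5, [(1, 106)], []),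
    (81, 5, [(1, 18)], [(81, 30)]), (89, 5, [], []), (95, 5, [], []), (106, 5, [], []), (109, 5, [(1, 1)], [(109,
    31)]), (124, 5, [], []), (140, 5, [], []), (146, 5, [], []), (162, 5, [], [])], [(0, []), (5, [25, 4, 3, 5]), (6,
    [55, 18]), (17, [25, 13, 3]), (18, [132, 2]), (30, [25, 26, 7])]⟩,
    by ((try (rewrite [Cfsg.Agent.LsF.f0eea50_14.2, Cfsg.Agent.LsF.f0eea50_21.2, Cfsg.Agent.LsF.ineg_pat])); decide +kernel)⟩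

theorem okB_3 : Ok B.Fin.datF B.Fin.tabB [] 3 3 [6] :=
    ⟨⟨13, [13, 9, 6, 6, 5, 10, 13, 2, 6, 3, 4, 4, 2, 2, 2, 3, 1, 2, 1, 7, 7, 5, 10, 5, 5, 8, 4, 9, 8, 8, 2, 3, 2, 2,
    1, 2, 1, 2, 0, 1, 1, 1, 0, 0, 1, 13, 12, 2, 1, 2, 1, 1, 1, 1, 5, 8, 2, 4, 3, 7, 2, 3, 2, 3, 7, 2, 6, 7, 6, 2, 6,
    5, 6, 6, 2, 2, 2, 2, 0, 0, 2, 5, 1, 1, 0, 0, 0, 0, 0, 0, 11, 10, 11, 11, 10, 1, 1, 0, 0, 0, 1, 0, 1, 0, 0, 0, 2,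
    1, 1, 0, 2, 2, 2, 2, 2, 6, 2, 6, 2, 5, 5, 1, 5, 5, 0, 1, 1, 13, 0, 0, 1, 1, 0, 2, 2, 2, 1, 1, 5, 5, 2, 0, 0, 1, 0,
    0, 0, 10, 10, 10, 1, 2, 0, 0, 0, 0, 0, 2, 2, 2, 1, 0, 2, 1, 1, 1, 1, 1, 1, 1, 5, 1, 0, 0, 11], [0, 25, 25, 25, 25,
    25, 0, 25, 25, 60, 25, 60, 60, 25, 60, 132, 133, 25, 132, 25, 36, 25, 23, 25, 25, 23, 25, 23, 23, 23, 25, 60, 25,
    25, 132, 25, 133, 60, 133, 132, 132, 60, 132, 157, 133, 0, 2, 25, 60, 25, 132, 60, 132, 60, 25, 23, 25, 25, 25,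
    23, 60, 25, 60, 60, 23, 25, 65, 146, 23, 60, 65, 65, 146, 143, 25, 25, 28, 28, 157, 157, 25, 65, 60, 60, 133, 132,
    132, 133, 132, 157, 2, 2, 2, 35, 2, 101, 60, 132, 132, 157, 60, 132, 132, 132, 132, 132, 25, 60, 60, 132, 25, 60,
    25, 25, 25, 65, 25, 23, 60, 146, 65, 60, 143, 65, 132, 72, 72, 0, 157, 157, 111, 111, 157, 25, 25, 25, 60, 60, 65,
    65, 51, 132, 132, 60, 157, 157, 157, 2, 2, 47, 101, 25, 132, 132, 132, 132, 132, 25, 28, 28, 60, 132, 78, 60, 60,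
    72, 72, 111, 60, 60, 65, 60, 157, 132, 2], [(0, 5, [(1, 1)], [(0, 78)]), (1, 5, [(1, 6)], [(1, 72)]), (2, 3, [(1,
    1)], [(2, 14)]), (3, 3, [(1, 1)], [(3, 19)]), (4, 3, [(1, 8)], [(4, 25)]), (17, 3, [], []), (18, 3, [], []), (30,
    3, [], []), (53, 3, [], []), (74, 3, [], []), (89, 3, [], []), (95, 3, [], []), (109, 3, [], []), (140, 3, [],
    []), (162, 3, [], [])], [(0, []), (1, [150, 4])]⟩,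
    by ((try (rewrite [Cfsg.Agent.LsF.f0eea50_14.2, Cfsg.Agent.LsF.f0eea50_21.2])); decide +kernel)⟩

theorem okB_5 : Ok B.Fin.datF B.Fin.tabB [] 5 3 [] :=
    ⟨⟨6, [6, 2, 3, 2, 2, 2, 1, 3, 1, 0, 1, 1, 1, 1, 0, 2, 1, 4, 6, 1, 2, 1, 0, 1, 1, 1, 0, 1, 0, 0, 1, 0, 1, 1, 0, 1,
    0, 1, 0, 0, 0, 0, 1, 0, 0, 0, 0, 2, 2, 2, 4, 2, 4, 1, 0, 0, 1, 0, 1, 1, 0, 0, 0, 0, 0, 0, 0, 0, 0, 0, 0, 0, 0, 0,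
    0, 1, 0, 0, 0, 0, 2, 3, 0, 0, 0, 0, 0, 0, 0, 0, 0, 0, 0, 0, 0, 0, 2, 4, 2, 1, 1, 1, 3, 2, 3, 3, 0, 0, 0, 0, 0, 0,
    0, 0, 0, 0, 0, 0, 0, 0, 0, 0, 0, 0, 6, 0, 0, 0, 0, 0, 0, 0, 0, 2, 1, 1, 1, 1, 3, 3, 0, 0, 0, 0, 0, 0, 1, 0, 0, 0,
    0, 0, 1, 1, 1, 2, 3, 0, 0, 0, 0, 0, 1, 0, 0, 0, 1, 0, 1, 1, 3, 0, 1, 0, 0], [0, 4, 19, 4, 19, 4, 55, 19, 19, 38,
    19, 38, 55, 19, 38, 4, 38, 4, 0, 19, 4, 19, 38, 19, 19, 38, 55, 38, 38, 38, 26, 70, 19, 19, 38, 19, 38, 38, 64,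
    64, 38, 38, 38, 38, 38, 38, 38, 4, 19, 4, 30, 19, 30, 19, 38, 38, 19, 55, 19, 38, 38, 38, 38, 55, 38, 55, 38, 38,
    38, 55, 38, 38, 38, 38, 70, 26, 38, 38, 38, 38, 4, 30, 38, 70, 38, 55, 38, 38, 38, 38, 38, 38, 38, 38, 55, 142,
    19, 30, 19, 19, 19, 19, 30, 4, 30, 30, 38, 64, 64, 95, 55, 38, 38, 55, 38, 38, 55, 38, 38, 38, 38, 55, 38, 38, 0,
    70, 70, 38, 38, 38, 38, 38, 38, 4, 19, 19, 19, 19, 30, 30, 116, 38, 38, 64, 55, 38, 26, 38, 55, 64, 142, 70, 19,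
    19, 19, 4, 46, 38, 38, 38, 64, 95, 26, 55, 38, 70, 19, 38, 19, 19, 30, 64, 26, 38, 38], [(0, 5, [(1, 1)], [(0,
    3121), (18, 1)]), (1, 3, [], []), (2, 3, [(1, 1)], []), (3, 3, [], []), (4, 3, [], []), (5, 3, [], []), (6, 3, [],
    []), (30, 3, [], []), (53, 3, [], []), (74, 3, [], []), (89, 3, [], []), (95, 3, [], []), (109, 3, [], []), (140,
    3, [], []), (162, 3, [], [])], [(0, [])]⟩,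
    by ((try (rewrite [Cfsg.Agent.LsF.f0eea50_14.2, Cfsg.Agent.LsF.f0eea50_21.2])); decide +kernel)⟩

end Cfsg.Agent.KM.Sp
end

-- part: KM/Sp/CtA
section
set_option linter.all false
private noncomputable def lq26c70a232c {T : Sort _} (f :
    type_of% (@_root_.List.cons.{0}) →
    type_of% (@_root_.List.cons.{0} (Nat)) →
    type_of% (@_root_.Prod.mk.{0, 0}) →
    type_of% (@_root_.List.nil.{0}) →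
    type_of% (@_root_.Cfsg.Agent.KM.Sp.Ct.mk) → T) : T :=
  f (@_root_.List.cons.{0}) (@_root_.List.cons.{0} (Nat)) (@_root_.Prod.mk.{0, 0}) (@_root_.List.nil.{0}) (@_root_.Cfsg.Agent.KM.Sp.Ct.mk)

/-!
# KM, sporadic rows: certificates (helper67)
-/

set_option autoImplicit false
set_option maxRecDepth 100000

namespace Cfsg.Agent.KM.Sp

open Cfsg Cfsg.Agent.TAB Cfsg.Agent.TAB.Eng Cfsg.Agent.TAB.Use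
open Cfsg.Agent.TAB.Sm2 (mkRows)

theorem okM12_2 : Ok Sm2.M12.dat (mkRows Sm2.M12.rA Sm2.M12.rB) [] 2 5 [] :=
    ⟨(beta% delta% lq26c70a232c fun a _ c d f =>
 (f 6 (a 6<|a 4<|a 6<|a 2<|a 3<|a 6<|a 6<|a 2<|a 2<|a 3<|a 6<|a 6<|a 2<|a 2<|d) (a 0<|a 11<|a 0<|a 11<|a 10<|a 0<|a 0<|a 11<|a 11<|a 10<|a 0<|a 0<|a 11<|a 11<|d) (a (c 0<|c 5<|c (a (c 1
 3)<|d) (a (c 0 29)<|a (c 2 1)<|a (c 5 31)<|a (c 6 31)<|d))<|a (c 3<|c 5<|c d d)<|a (c 4<|c 5<|c d d)<|a (c 7<|c 5<|c d d)<|a (c 13<|c 5<|c d d)<|d) d) :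
 Cfsg.Agent.KM.Sp.Ct),
    by decide +kernel⟩

theorem okM12_3 : Ok Sm2.M12.dat (mkRows Sm2.M12.rA Sm2.M12.rB) [] 3 3 [] :=
    ⟨(beta% delta% lq26c70a232c fun a _ c d f =>
 (f 3 (a 3<|a 1<|a 1<|a 2<|a 3<|a 0<|a 0<|a 0<|a 1<|a 2<|a 1<|a 1<|a 0<|a 0<|d) (a 0<|a 3<|a 4<|a 3<|a 0<|a 4<|a 4<|a 4<|a 3<|a 8<|a 3<|a 3<|a 4<|a 4<|d) (a (c 0<|c 3<|c (a (c 1 1)<|d)
 (a (c 0 2)<|d))<|a (c 1<|c 3<|c d d)<|a (c 2<|c 3<|c d d)<|a (c 7<|c 3<|c d d)<|a (c 13<|c 3<|c d d)<|d) d) :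
 Cfsg.Agent.KM.Sp.Ct),
    by decide +kernel⟩

theorem okM22_2 : Ok Sm2.M22.dat (mkRows Sm2.M22.rA Sm2.M22.rB) [] 2 5 [] :=
    ⟨(beta% delta% lq26c70a232c fun a _ c d f =>
 (f 7 (a 7<|a 7<|a 6<|a 7<|a 7<|a 6<|a 6<|a 7<|a 7<|a 6<|d) (a 0<|a 0<|a 4<|a 0<|a 0<|a 4<|a 4<|a 0<|a 0<|a 5<|d) (a (c 0<|c 5<|c (a (c 1 1)<|d) (a (c 0 5)<|a (c 1 1)<|a (c 4 31)<|d))<|
 a (c 2<|c 5<|c (a (c 1 1)<|d) (a (c 2 31)<|d))<|a (c 5<|c 5<|c d (a (c 5 1)<|d))<|a (c 7<|c 5<|c d (a (c 7 1)<|d))<|a (c 9<|c 5<|c d (a (c 9 1)<|d))<|d) d) :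
 Cfsg.Agent.KM.Sp.Ct),
    by decide +kernel⟩

theorem okM23_2 : Ok Sm2.M23.dat (mkRows Sm2.M23.rA Sm2.M23.rB) [] 2 5 [] :=
    ⟨(beta% delta% lq26c70a232c fun a _ c d f =>
 (f 7 (a 7<|a 7<|a 4<|a 7<|a 4<|a 4<|a 4<|a 7<|a 6<|a 4<|a 4<|a 6<|d) (a 0<|a 0<|a 6<|a 0<|a 6<|a 6<|a 6<|a 0<|a 2<|a 6<|a 6<|a 1<|d) (a (c 0<|c 5<|c (a (c 1 1)<|d) (a (c 0 6)<|a (c 1
 2)<|d))<|a (c 2<|c 5<|c d d)<|a (c 4<|c 5<|c d d)<|a (c 6<|c 5<|c d d)<|a (c 8<|c 5<|c d (a (c 8 1)<|d))<|a (c 11<|c 5<|c d (a (c 11 1)<|d))<|d) d) :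
 Cfsg.Agent.KM.Sp.Ct),
    by decide +kernel⟩

theorem okM24_2 : Ok Sm2.M24.dat (mkRows Sm2.M24.rA Sm2.M24.rB) [] 2 5 [] :=
    ⟨(beta% delta% lq26c70a232c fun a _ c d f =>
 (f 10 (a 10<|a 10<|a 10<|a 5<|a 7<|a 10<|a 10<|a 10<|a 6<|a 5<|a 7<|a 4<|a 10<|a 6<|a 6<|a 7<|a 10<|a 4<|a 7<|a 4<|a 4<|d) (a 0<|a 0<|a 0<|a 11<|a 10<|a 0<|a 0<|a 0<|a 10<|a 11<|
 a 10<|a 11<|a 0<|a 10<|a 10<|a 8<|a 0<|a 11<|a 8<|a 11<|a 11<|d) (a (c 0<|c 9<|c (a (c (-34) 2)<|a (c 1 10)<|d) (a (c 0 120)<|a (c 1 376)<|d))<|a (c 3<|c 5<|c (a (c 1 1)<|d) (a (c 3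
 1)<|a (c 9 31)<|d))<|a (c 4<|c 5<|c (a (c 1 5)<|d) (a (c 4 2)<|d))<|a (c 8<|c 5<|c (a (c 1 1)<|d) (a (c 8 31)<|d))<|a (c 11<|c 5<|c d d)<|a (c 14<|c 5<|c d (a (c 14 1)<|d))<|
 a (c 20<|c 5<|c d d)<|d) (a (c 0 d)<|d)) :
 Cfsg.Agent.KM.Sp.Ct),
    by decide +kernel⟩

theorem okM24_3 : Ok Sm2.M24.dat (mkRows Sm2.M24.rA Sm2.M24.rB) [] 3 3 [] :=
    ⟨(beta% delta% lq26c70a232c fun a _ c d f =>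
 (f 3 (a 3<|a 1<|a 1<|a 3<|a 2<|a 1<|a 0<|a 1<|a 1<|a 1<|a 1<|a 1<|a 0<|a 1<|a 1<|a 1<|a 3<|a 1<|a 1<|a 1<|a 0<|d) (a 0<|a 2<|a 5<|a 0<|a 5<|a 2<|a 15<|a 15<|a 2<|a 2<|a 5<|a 5<|a 15<|
 a 2<|a 2<|a 2<|a 0<|a 5<|a 2<|a 5<|a 15<|d) (a (c 0<|c 3<|c (a (c 1 1)<|d) (a (c 0 5)<|d))<|a (c 1<|c 3<|c d d)<|a (c 2<|c 3<|c d d)<|a (c 8<|c 3<|c d d)<|a (c 11<|c 3<|c d
 d)<|a (c 14<|c 3<|c d d)<|a (c 20<|c 3<|c d d)<|d) d) :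
 Cfsg.Agent.KM.Sp.Ct),
    by decide +kernel⟩

theorem okTits_2 : Ok Sm2.Tits.dat (mkRows Sm2.Tits.rA Sm2.Tits.rB) [] 2 5 [] :=
    ⟨(beta% delta% lq26c70a232c fun a _ c d f =>
 (f 11 (a 11<|a 11<|a 11<|a 9<|a 11<|a 11<|a 11<|a 5<|a 9<|a 11<|a 11<|a 5<|a 9<|a 5<|a 11<|d) (a 0<|a 0<|a 0<|a 2<|a 0<|a 0<|a 0<|a 7<|a 2<|a 0<|a 0<|a 7<|a 2<|a 7<|a 0<|d) (a (c 0<|
 c 9<|c (a (c (-1) 1)<|a (c 1 3)<|d) (a (c 0 503)<|a (c 2 511)<|a (c 1 7)<|a (c 6 511)<|a (c 5 511)<|a (c 9 511)<|d))<|a (c 3<|c 5<|c (a (c 1 1)<|d) (a (c 3 1)<|a (c 8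
 31)<|d))<|a (c 7<|c 5<|c (a (c 1 1)<|d) (a (c 7 31)<|d))<|a (c 13<|c 5<|c d (a (c 13 1)<|d))<|d) (a (c 0 d)<|d)) :
 Cfsg.Agent.KM.Sp.Ct),
    by decide +kernel⟩

theorem okJ2_2 : Ok J2.D (mkRows J2.A J2.B) [] 2 5 [] :=
    ⟨(beta% delta% lq26c70a232c fun a _ c d f =>
 (f 7 (a 7<|a 7<|a 4<|a 4<|a 2<|a 7<|a 2<|a 3<|a 4<|a 2<|a 2<|a 7<|a 2<|a 3<|a 5<|a 2<|d) (a 0<|a 0<|a 5<|a 10<|a 5<|a 0<|a 5<|a 8<|a 10<|a 5<|a 5<|a 0<|a 5<|a 10<|a 1<|a 5<|d) (a (c 0<|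
 c 5<|c (a (c 1 2)<|d) (a (c 0 15)<|a (c 1 3)<|a (c 5 1)<|d))<|a (c 3<|c 5<|c d d)<|a (c 4<|c 5<|c d d)<|a (c 6<|c 5<|c d d)<|a (c 7<|c 5<|c d d)<|a (c 10<|c 5<|
 c d d)<|d) d) :
 Cfsg.Agent.KM.Sp.Ct),
    by decide +kernel⟩

theorem okJ2_3 : Ok J2.D (mkRows J2.A J2.B) [] 3 3 [] :=
    ⟨(beta% delta% lq26c70a232c fun a _ c d f =>
 (f 3 (a 3<|a 1<|a 1<|a 3<|a 2<|a 1<|a 1<|a 1<|a 1<|a 1<|a 1<|a 1<|a 1<|a 1<|a 1<|a 1<|d) (a 0<|a 1<|a 2<|a 0<|a 2<|a 1<|a 1<|a 1<|a 1<|a 2<|a 1<|a 2<|a 2<|a 1<|a 1<|a 1<|d) (a (c 0<|c 3<|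
 c (a (c 1 2)<|d) d)<|a (c 1<|c 3<|c d d)<|a (c 2<|c 3<|c d d)<|a (c 6<|c 3<|c d d)<|a (c 7<|c 3<|c d d)<|a (c 10<|c 3<|c d d)<|d) d) :
 Cfsg.Agent.KM.Sp.Ct),
    by decide +kernel⟩

theorem okJ3_2 : Ok TH.Spor.J3.dat TH.Spor.J3.tab [] 2 5 [] :=
    ⟨(beta% delta% lq26c70a232c fun a _ c d f =>
 (f 7 (a 7<|a 7<|a 4<|a 1<|a 7<|a 1<|a 4<|a 7<|a 0<|a 3<|a 5<|a 0<|a 0<|a 3<|d) (a 0<|a 0<|a 5<|a 11<|a 0<|a 11<|a 5<|a 0<|a 11<|a 5<|a 3<|a 11<|a 11<|a 5<|d) (a (c 0<|c 5<|c (a (c 1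
 12)<|d) (a (c 0 18)<|a (c 1 30)<|d))<|a (c 2<|c 5<|c d d)<|a (c 3<|c 5<|c d d)<|a (c 5<|c 5<|c d d)<|a (c 12<|c 5<|c d d)<|a (c 13<|c 5<|c d d)<|d) d) :
 Cfsg.Agent.KM.Sp.Ct),
    by decide +kernel⟩

theorem okJ3_3 : Ok TH.Spor.J3.dat TH.Spor.J3.tab [] 3 3 [] :=
    ⟨(beta% delta% lq26c70a232c fun a _ c d f =>
 (f 5 (a 5<|a 1<|a 3<|a 5<|a 1<|a 1<|a 1<|a 5<|a 5<|a 1<|a 1<|a 1<|a 1<|a 1<|d) (a 0<|a 3<|a 3<|a 0<|a 3<|a 3<|a 3<|a 0<|a 0<|a 3<|a 3<|a 3<|a 3<|a 3<|d) (a (c 0<|c 5<|c (a (c 1 1)<|d)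
 (a (c 0 8)<|a (c 3 2)<|d))<|a (c 1<|c 3<|c d d)<|a (c 5<|c 3<|c d d)<|a (c 12<|c 3<|c d d)<|a (c 13<|c 3<|c d d)<|d) (a (c 0 d)<|d)) :
 Cfsg.Agent.KM.Sp.Ct),
    by decide +kernel⟩

private noncomputable def _root_.Cfsg.Agent.LsF.f792315_0 : {f // @Cfsg.Agent.KM.Sp.rl = f} := ⟨_, by first | (delta Cfsg.Agent.KM.Sp.rl; rewrite [Cfsg.Agent.LsF.getD_eq]; exact rfl) | exact rfl⟩
private noncomputable def _root_.Cfsg.Agent.LsF.f792315_1 : {f // @Cfsg.Agent.TAB.Use.Rows.n = f} := ⟨_, by first | (delta Cfsg.Agent.TAB.Use.Rows.n; rewrite [Cfsg.Agent.LsF.length_eq]; exact rfl) | exact rfl⟩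
private noncomputable def _root_.Cfsg.Agent.LsF.f792315_2 : {f // @Cfsg.Agent.TAB.Use.Rows.d = f} := ⟨_, by first | (delta Cfsg.Agent.TAB.Use.Rows.d; rewrite [Cfsg.Agent.LsF.getD_eq]; exact rfl) | exact rfl⟩
private noncomputable def _root_.Cfsg.Agent.LsF.f792315_3 : {f // @Cfsg.Agent.TAB.Eng.look = f} := ⟨_, by first | (delta Cfsg.Agent.TAB.Eng.look List.brecOn List.brecOn.go Cfsg.Agent.TAB.Eng.look._f; rewrite [Cfsg.Agent.LsF.instDecEq_eq, Cfsg.Agent.LsF.ite_eq]; (try delta Cfsg.Agent.TAB.Eng.look.match_1); (try delta List.casesOn); first | dsimp -zeta only | exact rfl) | exact rfl⟩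
private noncomputable def _root_.Cfsg.Agent.LsF.f792315_4 : {f // @Cfsg.Agent.KM.Sp.cbd = f} := ⟨_, by first | (delta Cfsg.Agent.KM.Sp.cbd; rewrite [Cfsg.Agent.LsF.f792315_0.2, Cfsg.Agent.LsF.f792315_1.2, Cfsg.Agent.LsF.f792315_2.2, Cfsg.Agent.LsF.f792315_3.2, Cfsg.Agent.LsF.nmul_pat, Cfsg.Agent.LsF.ndiv_pat, Cfsg.Agent.LsF.dProdEq_eq, Cfsg.Agent.LsF.instDecEq_eq, Cfsg.Agent.LsF.decLt_eq, Cfsg.Agent.LsF.getD_eq, Cfsg.Agent.LsF.headD_eq, Cfsg.Agent.LsF.natAbs_eq, Cfsg.Agent.LsF.instIDecEq_eq, Cfsg.Agent.LsF.dAnd_eq, Cfsg.Agent.LsF.dNot_eq, Cfsg.Agent.LsF.dListEq_eq, Cfsg.Agent.LsF.ite_eq]; exact rfl) | exact rfl⟩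
private noncomputable def _root_.Cfsg.Agent.LsF.f792315_5 : {f // @Cfsg.Agent.KM.Sp.ubB = f} := ⟨_, by first | (delta Cfsg.Agent.KM.Sp.ubB; rewrite [Cfsg.Agent.LsF.f792315_4.2, Cfsg.Agent.LsF.nadd_pat, Cfsg.Agent.LsF.nmod_pat, Cfsg.Agent.LsF.npow_pat, Cfsg.Agent.LsF.nbne_pat, Cfsg.Agent.LsF.all_eq, Cfsg.Agent.LsF.range_eq, Cfsg.Agent.LsF.getD_eq]; exact rfl) | exact rfl⟩
private noncomputable def _root_.Cfsg.Agent.LsF.f792315_6 : {f // @Cfsg.Agent.KM.Sp.psi = f} := ⟨_, by first | (delta Cfsg.Agent.KM.Sp.psi; rewrite [Cfsg.Agent.LsF.f792315_0.2, Cfsg.Agent.LsF.imul_pat, Cfsg.Agent.LsF.map_eq, Cfsg.Agent.LsF.sum_eq, Cfsg.Agent.LsF.getD_eq, Cfsg.Agent.LsF.instIAdd_eq]; exact rfl) | exact rfl⟩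
private noncomputable def _root_.Cfsg.Agent.LsF.f792315_7 : {f // @Cfsg.Agent.TAB.Eng.Dat.pw = f} := ⟨_, by first | (delta Cfsg.Agent.TAB.Eng.Dat.pw; rewrite [Cfsg.Agent.LsF.getD_eq]; exact rfl) | exact rfl⟩
private noncomputable def _root_.Cfsg.Agent.LsF.f792315_8 : {f // @Cfsg.Agent.TAB.Eng.Dat.ord = f} := ⟨_, by first | (delta Cfsg.Agent.TAB.Eng.Dat.ord; rewrite [Cfsg.Agent.LsF.getD_eq]; exact rfl) | exact rfl⟩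
private noncomputable def _root_.Cfsg.Agent.LsF.f792315_9 : {f // @Cfsg.Agent.TAB.Eng.Dat.pwf = f} := ⟨_, by first | (delta Cfsg.Agent.TAB.Eng.Dat.pwf; rewrite [Cfsg.Agent.LsF.f792315_3.2, Cfsg.Agent.LsF.f792315_7.2, Cfsg.Agent.LsF.f792315_8.2]; exact rfl) | exact rfl⟩
private noncomputable def _root_.Cfsg.Agent.LsF.f792315_10 : {f // @Cfsg.Agent.KM.Sp.killB = f} := ⟨_, by first | (delta Cfsg.Agent.KM.Sp.killB; rewrite [Cfsg.Agent.LsF.f792315_0.2, Cfsg.Agent.LsF.f792315_1.2, Cfsg.Agent.LsF.f792315_6.2, Cfsg.Agent.LsF.f792315_3.2, Cfsg.Agent.LsF.f792315_9.2, Cfsg.Agent.LsF.f792315_8.2, Cfsg.Agent.LsF.f792315_7.2, Cfsg.Agent.LsF.nmod_pat, Cfsg.Agent.LsF.npow_pat, Cfsg.Agent.LsF.nbeq_pat, Cfsg.Agent.LsF.nbne_pat, Cfsg.Agent.LsF.instNBEq_pat, Cfsg.Agent.LsF.isub_pat,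 Cfsg.Agent.LsF.imod_pat, Cfsg.Agent.LsF.icast_pat, Cfsg.Agent.LsF.ibeq_pat, Cfsg.Agent.LsF.instIBEq_pat, Cfsg.Agent.LsF.and_eq, Cfsg.Agent.LsF.or_eq, Cfsg.Agent.LsF.decLt_eq, Cfsg.Agent.LsF.all_eq, Cfsg.Agent.LsF.any_eq, Cfsg.Agent.LsF.contains_eq, Cfsg.Agent.LsF.range_eq, Cfsg.Agent.LsF.getD_eq, Cfsg.Agent.LsF.bne_eq, Cfsg.Agent.LsF.decide_eq]; exact rfl) | exact rfl⟩
private noncomputable def _root_.Cfsg.Agent.LsF.f792315_11 : {f // @Cfsg.Agent.TAB.Eng.Dat.cnt = f} := ⟨_, by first | (delta Cfsg.Agent.TAB.Eng.Dat.cnt; rewrite [Cfsg.Agent.LsF.getD_eq]; exact rfl) | exact rfl⟩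
private noncomputable def _root_.Cfsg.Agent.LsF.f792315_12 : {f // @Cfsg.Agent.KM.Sp.cbg = f} := ⟨_, by first | (delta Cfsg.Agent.KM.Sp.cbg; rewrite [Cfsg.Agent.LsF.f792315_4.2, Cfsg.Agent.LsF.foldr_eq]; exact rfl) | exact rfl⟩
private noncomputable def _root_.Cfsg.Agent.LsF.f792315_13 : {f // @Cfsg.Agent.KM.Sp.lbB = f} := ⟨_, by first | (delta Cfsg.Agent.KM.Sp.lbB; rewrite [Cfsg.Agent.LsF.f792315_11.2, Cfsg.Agent.LsF.f792315_12.2, Cfsg.Agent.LsF.nmul_pat, Cfsg.Agent.LsF.nsub_pat, Cfsg.Agent.LsF.ndiv_pat, Cfsg.Agent.LsF.npow_pat, Cfsg.Agent.LsF.decLt_eq, Cfsg.Agent.LsF.decide_eq]; exact rfl) | exact rfl⟩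
private noncomputable def _root_.Cfsg.Agent.LsF.f792315_14 : {f // @Cfsg.Agent.KM.Sp.chk = f} := ⟨_, by first | (delta Cfsg.Agent.KM.Sp.chk; rewrite [Cfsg.Agent.LsF.f792315_5.2, Cfsg.Agent.LsF.f792315_10.2, Cfsg.Agent.LsF.f792315_8.2, Cfsg.Agent.LsF.f792315_7.2, Cfsg.Agent.LsF.f792315_9.2, Cfsg.Agent.LsF.f792315_13.2, Cfsg.Agent.LsF.nadd_pat, Cfsg.Agent.LsF.nmod_pat, Cfsg.Agent.LsF.npow_pat, Cfsg.Agent.LsF.nbeq_pat, Cfsg.Agent.LsF.nbne_pat, Cfsg.Agent.LsF.and_eq, Cfsg.Agent.LsF.or_eq, Cfsg.Agent.LsF.decLe_eq, Cfsg.Agent.LsF.all_eq, Cfsg.Agent.LsF.any_eq, Cfsg.Agent.LsF.range_eq, Cfsg.Agent.LsF.decide_eq]; exact rfl) | exact rfl⟩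
private noncomputable def _root_.Cfsg.Agent.LsF.f792315_15 : {f // @Cfsg.Agent.TAB.J4.rows = f} := ⟨_, by first | (delta Cfsg.Agent.TAB.J4.rows; rewrite [Cfsg.Agent.LsF.lappend_pat]; exact rfl) | exact rfl⟩
private noncomputable def _root_.Cfsg.Agent.LsF.f792315_16 : {f // @Cfsg.Agent.TAB.J4.RR = f} := ⟨_, by first | (delta Cfsg.Agent.TAB.J4.RR; rewrite [Cfsg.Agent.LsF.f792315_15.2, Cfsg.Agent.LsF.zip_eq]; exact rfl) | exact rfl⟩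
theorem okJ4_2 : Ok J4.D J4.RR [] 2 5 [] :=
    ⟨(beta% delta% lq26c70a232c fun a b c d f =>
 (f 21 (let e:=(let e:=(let e:=(b 21<|b 19<|b 7<|b 15<|b 14<|b 7<|d);
 (b 15<|b 7<|b 7<|b 7<|b 7<|e));
 (let e:=(b 7<|
 b 9<|b 13<|b 7<|b 18<|b 15<|e);
 (b 8<|b 15<|b 7<|b 21<|b 14<|e)));
 (let e:=(let e:=(b 14<|b 9<|b 8<|b 16<|b 16<|b 16<|e);
 (b 9<|b 21<|b 21<|b 21<|b 10<|e));
 (let e:=(b 21<|b 21<|b 10<|b 14<|b 16<|b 16<|e);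
 (a 21<|a 21<|a 21<|a 14<|a 21<|e)))) (let e:=(let e:=(let e:=(b 0<|b 12<|b 40<|b 41<|b 16<|b 40<|d);
 (b 28<|b 40<|b 40<|b 40<|b 40<|e));
 (let e:=(b 40<|b 40<|b 16<|b 40<|b 6<|b 28<|e);
 (b 40<|b 28<|b 40<|b 0<|b 16<|e)));
 (let e:=(let e:=(b 16<|b 40<|b 40<|b 28<|b 28<|b 28<|e);
 (b 40<|b 0<|b 0<|b 0<|b 40<|
 e));
 (let e:=(b 0<|b 0<|b 40<|b 40<|b 16<|b 16<|e);
 (a 0<|a 0<|a 0<|a 40<|a 0<|e)))) (a (c 0<|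
 c 18<|c (a (c 65534 4)<|a (c 41595 12)<|a (c 108384 13)<|a (c 1 18)<|d) (a (c 0 230266)<|a (c 1 48250)<|a (c 2 229434)<|a (c 4 118490)<|a (c 5
 229354)<|a (c 14 173918)<|d))<|a (c 3<|c 8<|c (a (c 75 4)<|a (c (-99) 8)<|a (c (-66) 12)<|a (c 1 13)<|d) (a (c 3 84)<|a (c 9 188)<|a (c 10 16)<|a (c 20
 240)<|d))<|a (c 7<|c 5<|c (a (c 1 13)<|d) (a (c 7 30)<|a (c 15 2)<|d))<|a (c 11<|c 5<|c (a (c 1 7)<|d) (a (c 11 31)<|a (c 23 1)<|d))<|a (c 17<|c 5<|c (a (c 1 1)<|d) (a (c 17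
 28)<|d))<|a (c 18<|c 5<|c (a (c 1 1)<|d) d)<|a (c 30<|c 5<|c d (a (c 30 1)<|d))<|a (c 33<|c 5<|c d (a (c 33 1)<|d))<|a (c 35<|c 5<|c d (a (c 35 1)<|d))<|a (c 38<|c 5<|c d
 (a (c 38 1)<|d))<|a (c 41<|c 5<|c d (a (c 41 1)<|d))<|d) (a (c 0 d)<|a (c 3 (a 17<|a 4<|d))<|d)) :
 Cfsg.Agent.KM.Sp.Ct),
    by ((try (rewrite [Cfsg.Agent.LsF.f792315_14.2, Cfsg.Agent.LsF.f792315_16.2, Cfsg.Agent.LsF.ineg_pat])); decide +kernel)⟩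

private noncomputable def _root_.Cfsg.Agent.LsF.f792315_17 : {f // @Cfsg.Agent.TAB.Sm2.rw' = f} := ⟨_, by first | (delta Cfsg.Agent.TAB.Sm2.rw'; rewrite [Cfsg.Agent.LsF.lappend_pat, Cfsg.Agent.LsF.getD_eq]; exact rfl) | exact rfl⟩
private noncomputable def _root_.Cfsg.Agent.LsF.f792315_18 : {f // @Cfsg.Agent.TAB.Sm2.wt = f} := ⟨_, by first | (delta Cfsg.Agent.TAB.Sm2.wt; rewrite [Cfsg.Agent.LsF.f792315_17.2, Cfsg.Agent.LsF.imul_pat, Cfsg.Agent.LsF.decLt_eq, Cfsg.Agent.LsF.length_eq, Cfsg.Agent.LsF.ite_eq]; exact rfl) | exact rfl⟩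
private noncomputable def _root_.Cfsg.Agent.LsF.f792315_19 : {f // @Cfsg.Agent.TAB.Sm2.ro = f} := ⟨_, by first | (delta Cfsg.Agent.TAB.Sm2.ro; rewrite [Cfsg.Agent.LsF.nadd_pat, Cfsg.Agent.LsF.nsub_pat, Cfsg.Agent.LsF.ndiv_pat, Cfsg.Agent.LsF.decLt_eq, Cfsg.Agent.LsF.length_eq, Cfsg.Agent.LsF.ite_eq]; exact rfl) | exact rfl⟩
private noncomputable def _root_.Cfsg.Agent.LsF.f792315_20 : {f // @Cfsg.Agent.TAB.Sm2.mkRows = f} := ⟨_, by first | (delta Cfsg.Agent.TAB.Sm2.mkRows; rewrite [Cfsg.Agent.LsF.f792315_18.2, Cfsg.Agent.LsF.f792315_19.2, Cfsg.Agent.LsF.f792315_17.2, Cfsg.Agent.LsF.nadd_pat, Cfsg.Agent.LsF.nmul_pat, Cfsg.Agent.LsF.ndiv_pat, Cfsg.Agent.LsF.lappend_pat, Cfsg.Agent.LsF.map_eq, Cfsg.Agent.LsF.range_eq, Cfsg.Agent.LsF.toNat_eq, Cfsg.Agent.LsF.length_eq];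 exact rfl) | exact rfl⟩
private noncomputable def _root_.Cfsg.Agent.LsF.f792315_21 : {f // @Cfsg.Agent.TAB.Co1.RR = f} := ⟨_, by first | (delta Cfsg.Agent.TAB.Co1.RR; rewrite [Cfsg.Agent.LsF.f792315_20.2]; exact rfl) | exact rfl⟩
theorem okCo1_2 : Ok Co1.D Co1.RR [(53, 1152)] 2 5 [] :=
    ⟨(beta% delta% lq26c70a232c fun a b c d f =>
 (f 21 (let e:=(let e:=(let e:=(let e:=(b 3<|b 2<|b 9<|b 2<|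
 b 15<|b 3<|b 9<|d);
 (b 9<|b 6<|b 3<|b 3<|b 5<|b 5<|e));
 (let e:=(b 16<|b 16<|b 18<|b 19<|b 3<|b 3<|e);
 (b 2<|b 3<|b 15<|b 2<|b 17<|b 19<|e)));
 (let e:=(let e:=(b 6<|b 5<|b 5<|b 11<|b 17<|b 15<|b 3<|e);
 (b 3<|
 b 3<|b 3<|b 5<|b 20<|b 20<|e));
 (let e:=(b 4<|b 18<|b 3<|b 3<|b 6<|b 5<|e);
 (b 6<|b 16<|b 16<|b 17<|b 7<|b 15<|e))));
 (let e:=(let e:=(let e:=(b 15<|b 4<|b 15<|b 17<|b 17<|b 12<|b 12<|e);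
 (b 3<|b 9<|b 5<|b 5<|b 7<|b 7<|e));
 (let e:=(b 21<|b 21<|b 18<|b 21<|b 5<|b 4<|e);
 (b 5<|b 16<|b 3<|b 6<|b 21<|
 b 21<|e)));
 (let e:=(let e:=(b 9<|b 11<|b 11<|b 10<|b 9<|b 16<|e);
 (b 9<|b 21<|b 8<|b 6<|b 5<|b 14<|e));
 (let e:=(b 9<|b 6<|b 21<|b 21<|b 21<|b 21<|e);
 (a 21<|a 21<|a 15<|a 21<|a 13<|a 10<|e))))) (let e:=(let e:=(let e:=(let e:=(b 61<|b 45<|b 26<|b 45<|b 36<|b 45<|b 26<|d);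
 (b 26<|b 71<|b 45<|b 45<|b 71<|b 71<|e));
 (let e:=(b 36<|b 55<|b 14<|b 13<|b 45<|b 61<|
 e);
 (b 45<|b 61<|b 36<|b 45<|b 36<|b 14<|e)));
 (let e:=(let e:=(b 71<|b 71<|b 71<|b 26<|b 41<|b 48<|b 45<|e);
 (b 45<|b 45<|b 45<|b 71<|b 1<|b 1<|e));
 (let e:=(b 61<|b 41<|
 b 45<|b 45<|b 71<|b 45<|e);
 (b 61<|b 43<|b 36<|b 21<|b 7<|b 43<|e))));
 (let e:=(let e:=(let e:=(b 43<|b 61<|b 26<|b 36<|b 36<|b 26<|b 26<|e);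
 (b 45<|b 71<|b 45<|b 45<|b 71<|b 71<|e));
 (let e:=(b 0<|b 0<|b 55<|b 0<|b 45<|b 45<|e);
 (b 45<|b 43<|b 45<|
 b 61<|b 0<|b 0<|e)));
 (let e:=(let e:=(b 45<|b 71<|b 71<|b 71<|b 71<|b 43<|e);
 (b 61<|b 0<|b 45<|b 45<|b 45<|b 71<|e));
 (let e:=(b 45<|b 45<|b 0<|b 0<|b 0<|b 0<|e);
 (a 0<|a 0<|a 45<|a 0<|a 45<|a 71<|e))))) (a (c 0<|c 17<|c (a (c (-37878) 1)<|a (c (-51196) 2)<|a (c 24826 3)<|a (c (-14338) 4)<|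
 a (c 39419 5)<|a (c (-39167) 9)<|a (c 1 10)<|d) (a (c 0 66255)<|a (c 1 66767)<|a (c 3 99567)<|a (c 8 103599)<|a (c 9 62735)<|a (c 11 66807)<|a (c 10
 99583)<|a (c 31 14607)<|a (c 30 35047)<|d))<|a (c 4<|c 9<|c (a (c 129 1)<|a (c 1 11)<|d) (a (c 4 305)<|a (c 17 257)<|a (c 44 253)<|a (c 45 261)<|a (c 46
 1)<|d))<|a (c 5<|c 8<|c (a (c (-1) 2)<|a (c 1 15)<|d) (a (c 5 5)<|a (c 21 5)<|a (c 48 1)<|d))<|a (c 6<|c 6<|c (a (c (-1) 1)<|a (c 1 5)<|d) (a (c 6 60)<|a (c 22 60)<|a (c 20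
 4)<|d))<|a (c 7<|c 5<|c (a (c 1 22)<|d) (a (c 7 5)<|a (c 25 1)<|d))<|a (c 14<|c 5<|c (a (c 1 4)<|d) (a (c 14 5)<|a (c 37 1)<|a (c 70 31)<|d))<|a (c 15<|c 5<|c (a (c 14 1)<|a (c 1
 15)<|d) (a (c 15 3)<|a (c 42 31)<|d))<|a (c 16<|c 5<|c (a (c 1 1)<|d) (a (c 16 5)<|a (c 41 31)<|d))<|a (c 26<|c 5<|c d d)<|a (c 27<|c 5<|c (a (c 1 1)<|d) (a (c 27 31)<|
 a (c 59 1)<|d))<|a (c 34<|c 5<|c (a (c 1 1)<|d) (a (c 34 2)<|d))<|a (c 35<|c 5<|c d d)<|a (c 36<|c 5<|c d d)<|a (c 43<|c 5<|c d d)<|a (c 57<|c 5<|c d d)<|a (c 77<|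
 c 5<|c d d)<|d) (a (c 0 d)<|a (c 4 (a 5<|d))<|a (c 5 (a 24<|a 5<|a 3<|a 2<|d))<|a (c 6 (a 22<|a 15<|d))<|d)) :
 Cfsg.Agent.KM.Sp.Ct),
    by ((try (rewrite [Cfsg.Agent.LsF.f792315_14.2, Cfsg.Agent.LsF.f792315_21.2, Cfsg.Agent.LsF.ineg_pat])); decide +kernel)⟩

theorem okCo1_3 : Ok Co1.D Co1.RR [(8, 743178240)] 3 3 [] :=
    ⟨(beta% delta% lq26c70a232c fun a b c d f =>
 (f 9 (let e:=(let e:=(let e:=(let e:=(b 2<|b 1<|b 7<|b 2<|b 0<|b 2<|b 2<|d);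
 (b 1<|b 2<|b 1<|b 2<|b 3<|b 2<|e));
 (let e:=(b 2<|b 2<|b 2<|b 3<|b 1<|b 1<|e);
 (b 2<|b 1<|b 2<|b 0<|b 2<|b 2<|e)));
 (let e:=(let e:=(b 8<|b 8<|b 8<|b 1<|b 0<|b 0<|b 2<|
 e);
 (b 2<|b 2<|b 2<|b 3<|b 0<|b 0<|e));
 (let e:=(b 3<|b 1<|b 2<|b 2<|b 1<|b 3<|e);
 (b 3<|b 3<|b 2<|b 4<|b 3<|b 4<|e))));
 (let e:=(let e:=(let e:=(b 0<|b 2<|b 3<|b 3<|b 2<|b 5<|b 3<|e);
 (b 9<|b 1<|b 1<|b 1<|b 1<|b 1<|e));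
 (let e:=(b 2<|b 0<|b 2<|b 2<|b 9<|b 9<|
 e);
 (b 2<|b 2<|b 2<|b 1<|b 2<|b 1<|e)));
 (let e:=(let e:=(b 3<|b 6<|b 7<|b 4<|b 6<|b 4<|e);
 (b 3<|b 1<|b 3<|b 2<|b 1<|b 5<|e));
 (let e:=(b 9<|b 5<|b 4<|b 3<|b 2<|b 2<|e);
 (a 9<|a 5<|a 3<|a 3<|a 8<|a 8<|e))))) (let e:=(let e:=(let e:=(let e:=(b 24<|b 37<|b 7<|b 35<|b 96<|
 b 24<|b 24<|d);
 (b 64<|b 24<|b 37<|b 24<|b 90<|b 24<|e));
 (let e:=(b 24<|b 35<|b 24<|b 90<|b 64<|b 37<|e);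
 (b 24<|b 37<|b 33<|b 96<|b 24<|b 24<|e)));
 (let e:=(let e:=(b 1<|
 b 1<|b 1<|b 96<|b 96<|b 96<|b 24<|e);
 (b 24<|b 37<|b 24<|b 90<|b 96<|b 96<|e));
 (let e:=(b 17<|b 37<|b 35<|b 24<|b 37<|b 17<|e);
 (b 17<|b 24<|b 24<|b 90<|b 24<|b 90<|e))));
 (let e:=(let e:=(let e:=(b 96<|b 24<|b 24<|b 24<|b 24<|b 90<|b 24<|e);
 (b 0<|b 96<|b 96<|
 b 37<|b 96<|b 96<|e));
 (let e:=(b 24<|b 96<|b 35<|b 37<|b 0<|b 0<|e);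
 (b 37<|b 37<|b 24<|b 37<|b 24<|b 96<|e)));
 (let e:=(let e:=(b 17<|b 24<|b 9<|b 24<|b 90<|b 24<|e);
 (b 17<|b 37<|b 17<|b 24<|b 96<|b 24<|e));
 (let e:=(b 0<|b 37<|b 24<|b 33<|
 b 96<|b 24<|e);
 (a 0<|a 24<|a 17<|a 37<|a 17<|a 24<|e))))) (a (c 0<|c 9<|c (a (c 1 9)<|d) (a (c 0 54)<|d))<|a (c 1<|c 5<|c (a (c 1 97)<|d) (a (c 1 233)<|a (c 22 2)<|d))<|a (c 2<|c 3<|c (a (c 1 1)<|d) (a (c 2 21)<|d))<|a (c 3<|c 3<|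
 c (a (c 1 1)<|d) (a (c 3 24)<|d))<|a (c 8<|c 4<|c (a (c 1 1)<|d) d)<|a (c 9<|c 3<|c (a (c 1 6)<|d) (a (c 9 2)<|d))<|a (c 10<|c 3<|c d d)<|a (c 11<|c 3<|c d d)<|a (c 14<|c 3<|
 c (a (c 1 1)<|d) (a (c 14 3)<|d))<|a (c 15<|c 3<|c d d)<|a (c 16<|c 3<|c d d)<|a (c 26<|c 3<|c d d)<|a (c 27<|c 3<|c d d)<|a (c 28<|c 3<|c d d)<|a (c 29<|c 3<|
 c d d)<|a (c 43<|c 3<|c d d)<|a (c 57<|c 3<|c d d)<|a (c 77<|c 3<|c d d)<|d) (a (c 0 d)<|a (c 1 (a 5<|a 8<|a 2<|d))<|a (c 8 (a 45<|d))<|d)) :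
 Cfsg.Agent.KM.Sp.Ct),
    by ((try (rewrite [Cfsg.Agent.LsF.f792315_14.2, Cfsg.Agent.LsF.f792315_21.2])); decide +kernel)⟩

theorem okCo1_5 : Ok Co1.D Co1.RR [] 5 3 [] :=
    ⟨(beta% delta% lq26c70a232c fun a b c d f =>
 (f 4 (let e:=(let e:=(let e:=(let e:=(b 0<|b 1<|b 0<|b 0<|b 1<|b 0<|b 1<|d);
 (b 0<|b 1<|b 1<|b 1<|b 2<|b 1<|e));
 (let e:=(b 0<|b 0<|b 0<|b 0<|b 0<|b 0<|e);
 (b 0<|b 0<|b 0<|b 0<|b 0<|b 0<|e)));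
 (let e:=(let e:=(b 0<|b 0<|b 0<|b 1<|b 1<|b 2<|b 0<|
 e);
 (b 2<|b 1<|b 1<|b 2<|b 0<|b 0<|e));
 (let e:=(b 0<|b 0<|b 0<|b 0<|b 0<|b 2<|e);
 (b 0<|b 0<|b 0<|b 0<|b 0<|b 0<|e))));
 (let e:=(let e:=(let e:=(b 1<|b 0<|b 1<|b 0<|b 0<|b 0<|b 0<|e);
 (b 0<|b 2<|b 2<|b 2<|b 2<|b 3<|e));
 (let e:=(b 0<|b 0<|b 0<|b 0<|b 0<|b 0<|
 e);
 (b 1<|b 0<|b 1<|b 0<|b 1<|b 0<|e)));
 (let e:=(let e:=(b 1<|b 1<|b 1<|b 0<|b 0<|b 0<|e);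
 (b 0<|b 1<|b 3<|b 3<|b 4<|b 1<|e));
 (let e:=(b 1<|b 1<|b 1<|b 0<|b 1<|b 0<|e);
 (a 4<|a 2<|a 2<|a 1<|a 2<|a 1<|e))))) (let e:=(let e:=(let e:=(let e:=(b 55<|b 14<|b 38<|b 38<|b 10<|b 22<|b 10<|d);
 (b 40<|b 10<|b 10<|b 5<|b 70<|b 5<|e));
 (let e:=(b 38<|b 22<|b 22<|b 38<|b 38<|b 22<|e);
 (b 22<|b 22<|b 55<|b 79<|b 22<|b 22<|e)));
 (let e:=(let e:=(b 22<|b 22<|b 22<|b 10<|b 5<|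
 b 70<|b 22<|e);
 (b 5<|b 10<|b 5<|b 70<|b 22<|b 22<|e));
 (let e:=(b 22<|b 22<|b 38<|b 22<|b 22<|b 6<|e);
 (b 38<|b 22<|b 38<|b 22<|b 22<|b 38<|e))));
 (let e:=(let e:=(let e:=(b 5<|b 55<|b 10<|b 22<|b 22<|b 22<|b 38<|e);
 (b 22<|b 10<|b 5<|b 6<|b 5<|b 9<|
 e));
 (let e:=(b 22<|b 22<|b 38<|b 22<|b 22<|b 38<|e);
 (b 10<|b 38<|b 14<|b 22<|b 10<|b 22<|e)));
 (let e:=(let e:=(b 5<|b 5<|b 22<|b 22<|b 22<|b 38<|e);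
 (b 22<|b 5<|b 6<|b 5<|b 0<|b 10<|e));
 (let e:=(b 22<|b 10<|b 10<|b 38<|b 38<|
 b 22<|e);
 (a 0<|a 5<|a 5<|a 5<|a 5<|a 5<|e))))) (a (c 0<|c 4<|
 c (a (c 1 1)<|d) (a (c 0 1)<|d))<|a (c 1<|c 3<|c d d)<|a (c 2<|c 3<|c d d)<|a (c 3<|c 3<|c d d)<|a (c 4<|c 3<|c d d)<|a (c 5<|c 3<|c d d)<|a (c 6<|c 3<|c d
 d)<|a (c 7<|c 3<|c d d)<|a (c 26<|c 3<|c d d)<|a (c 27<|c 3<|c d d)<|a (c 43<|c 3<|c d d)<|a (c 57<|c 3<|c d d)<|a (c 77<|c 3<|c d d)<|d) (a (c 0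
 d)<|d)) :
 Cfsg.Agent.KM.Sp.Ct),
    by ((try (rewrite [Cfsg.Agent.LsF.f792315_14.2, Cfsg.Agent.LsF.f792315_21.2])); decide +kernel)⟩

theorem okCo2_2 : Ok Co2.D (mkRows Co2.A Co2.B) [] 2 5 [] :=
    ⟨(beta% delta% lq26c70a232c fun a b c d f =>
 (f 18 (let e:=(let e:=(let e:=(b 11<|b 0<|b 15<|b 15<|b 9<|b 5<|b 9<|d);
 (b 9<|b 1<|b 1<|b 18<|b 18<|b 5<|b 16<|e));
 (let e:=(b 13<|b 11<|b 12<|b 13<|b 15<|b 15<|b 6<|e);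
 (b 1<|
 b 10<|b 6<|b 12<|b 0<|b 12<|b 12<|e)));
 (let e:=(let e:=(b 6<|b 17<|b 18<|b 18<|b 18<|b 17<|b 18<|e);
 (b 3<|b 13<|b 9<|b 9<|b 9<|b 11<|b 12<|e));
 (let e:=(b 17<|b 17<|b 18<|b 18<|b 18<|b 18<|b 3<|e);
 (a 18<|a 18<|a 18<|a 18<|a 7<|a 7<|a 18<|e)))) (let e:=(let e:=(let e:=(b 23<|b 45<|b 10<|b 5<|b 18<|b 50<|b 18<|d);
 (b 18<|b 45<|b 45<|b 0<|b 0<|b 50<|b 8<|e));
 (let e:=(b 23<|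
 b 18<|b 23<|b 41<|b 10<|b 5<|b 50<|e);
 (b 45<|b 18<|b 50<|b 23<|b 45<|b 18<|b 23<|e)));
 (let e:=(let e:=(b 50<|b 5<|b 0<|b 0<|b 0<|b 5<|b 0<|e);
 (b 45<|b 18<|b 50<|b 50<|b 50<|b 18<|b 23<|e));
 (let e:=(b 23<|b 23<|b 0<|b 0<|b 0<|b 0<|b 45<|e);
 (a 0<|a 0<|a 0<|a 0<|a 45<|
 a 45<|a 0<|e)))) (a (c 0<|c 16<|c (a (c 29188 1)<|a (c (-9723) 2)<|
 a (c 13821 4)<|a (c 13054 5)<|a (c (-3330) 6)<|a (c (-9983) 8)<|a (c (-1282) 9)<|a (c (-2047) 11)<|a (c 1 13)<|d) (a (c 0 19161)<|a (c 1 2809)<|a (c 2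
 10985)<|a (c 3 31473)<|a (c 8 4861)<|a (c 6 6889)<|a (c 9 27409)<|a (c 11 21245)<|a (c 25 65269)<|a (c 24 34569)<|d))<|a (c 4<|c 6<|c (a (c 1 22)<|d)
 (a (c 16 60)<|d))<|a (c 5<|c 6<|c (a (c (-1) 1)<|a (c 1 38)<|d) (a (c 5 61)<|a (c 19 1)<|a (c 18 61)<|a (c 36 1)<|d))<|a (c 13<|c 5<|c d d)<|a (c 14<|c 5<|c d d)<|
 a (c 21<|c 5<|c (a (c (-15) 1)<|a (c 1 2)<|d) (a (c 21 31)<|a (c 41 1)<|d))<|a (c 28<|c 5<|c d d)<|a (c 32<|c 5<|c d d)<|a (c 50<|c 5<|c d d)<|d) (a (c 0 d)<|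
 a (c 4 (a 11<|a 4<|d))<|a (c 5 (a 14<|a 3<|a 1<|d))<|d)) :
 Cfsg.Agent.KM.Sp.Ct),
    by ((try (rewrite [Cfsg.Agent.LsF.f792315_14.2, Cfsg.Agent.LsF.f792315_20.2, Cfsg.Agent.LsF.ineg_pat])); decide +kernel)⟩

theorem okCo2_3 : Ok Co2.D (mkRows Co2.A Co2.B) [] 3 3 [] :=
    ⟨(beta% delta% lq26c70a232c fun a b c d f =>
 (f 6 (let e:=(let e:=(let e:=(b 0<|b 0<|b 1<|b 3<|b 0<|b 1<|b 4<|d);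
 (b 0<|b 1<|b 4<|b 0<|b 0<|b 6<|b 0<|e));
 (let e:=(b 4<|
 b 2<|b 1<|b 3<|b 1<|b 3<|b 0<|e);
 (b 6<|b 1<|b 1<|b 0<|b 0<|b 4<|b 2<|e)));
 (let e:=(let e:=(b 0<|b 1<|b 1<|b 0<|b 0<|b 0<|b 0<|e);
 (b 1<|b 4<|b 5<|b 3<|b 3<|b 2<|b 2<|e));
 (let e:=(b 1<|b 2<|b 1<|b 1<|b 1<|b 0<|b 1<|e);
 (a 6<|a 4<|a 2<|a 2<|a 6<|a 5<|a 3<|e)))) (let e:=(let e:=(let e:=(b 20<|b 48<|b 14<|b 40<|b 20<|b 14<|b 6<|d);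
 (b 20<|b 14<|b 6<|b 20<|b 20<|b 0<|b 20<|e));
 (let e:=(b 6<|b 14<|b 14<|b 40<|b 14<|b 40<|b 20<|
 e);
 (b 0<|b 42<|b 14<|b 20<|b 51<|b 40<|b 14<|e)));
 (let e:=(let e:=(b 20<|b 20<|b 14<|b 20<|b 20<|b 20<|b 20<|e);
 (b 14<|b 6<|b 6<|b 14<|b 14<|b 14<|b 14<|e));
 (let e:=(b 14<|b 14<|b 20<|b 14<|b 20<|b 28<|
 b 20<|e);
 (a 0<|a 20<|a 14<|a 14<|a 0<|a 14<|a 14<|e)))) (a (c 0<|c 6<|c (a (c 1 1)<|d) (a (c 0 725)<|a (c 4 2)<|d))<|a (c 1<|c 4<|c (a (c 1 1)<|d) d)<|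
 a (c 2<|c 3<|c d d)<|a (c 3<|c 3<|c d d)<|a (c 6<|c 3<|c (a (c 1 1)<|d) (a (c 6 25)<|d))<|a (c 9<|c 3<|c d d)<|a (c 13<|c 3<|c d d)<|a (c 14<|c 3<|c d d)<|
 a (c 21<|c 3<|c d d)<|a (c 32<|c 3<|c d d)<|a (c 50<|c 3<|c d d)<|d) (a (c 0 d)<|a (c 1 (a 3<|a 1<|d))<|d)) :
 Cfsg.Agent.KM.Sp.Ct),
    by ((try (rewrite [Cfsg.Agent.LsF.f792315_14.2, Cfsg.Agent.LsF.f792315_20.2])); decide +kernel)⟩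

theorem okCo2_5 : Ok Co2.D (mkRows Co2.A Co2.B) [] 5 3 [] :=
    ⟨(beta% delta% lq26c70a232c fun a b c d f =>
 (f 3 (let e:=(let e:=(let e:=(b 2<|b 0<|b 0<|b 0<|b 0<|b 1<|b 2<|d);
 (b 0<|b 1<|b 2<|b 0<|b 0<|b 0<|b 1<|e));
 (let e:=(b 0<|
 b 0<|b 0<|b 0<|b 0<|b 0<|b 0<|e);
 (b 0<|b 2<|b 1<|b 1<|b 0<|b 0<|b 0<|e)));
 (let e:=(let e:=(b 0<|b 0<|b 0<|b 0<|b 0<|b 0<|b 0<|e);
 (b 2<|b 1<|b 0<|b 1<|b 0<|b 0<|b 0<|e));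
 (let e:=(b 1<|b 0<|b 0<|b 0<|b 0<|b 1<|b 3<|e);
 (a 3<|a 1<|a 1<|a 1<|a 1<|a 1<|a 0<|e)))) (let e:=(let e:=(let e:=(b 21<|b 33<|b 10<|b 11<|b 10<|b 3<|b 21<|d);
 (b 11<|b 3<|
 b 21<|b 11<|b 11<|b 11<|b 3<|e));
 (let e:=(b 10<|b 10<|b 10<|b 11<|b 10<|b 10<|b 10<|e);
 (b 10<|b 21<|b 3<|b 3<|b 10<|b 10<|b 11<|e)));
 (let e:=(let e:=(b 10<|b 11<|b 10<|b 12<|b 11<|b 11<|b 11<|e);
 (b 3<|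
 b 10<|b 10<|b 3<|b 10<|b 10<|b 10<|e));
 (let e:=(b 10<|b 10<|b 10<|b 10<|b 10<|b 3<|b 0<|e);
 (a 0<|a 3<|a 10<|a 3<|a 11<|a 3<|a 10<|e)))) (a (c 0<|c 3<|c (a (c 1 1)<|d) (a (c 0 123)<|d))<|a (c 1<|c 3<|c d d)<|a (c 2<|c 3<|c d d)<|a (c 3<|
 c 3<|c d d)<|a (c 4<|c 3<|c d d)<|a (c 5<|c 3<|c d d)<|a (c 21<|c 3<|c d d)<|a (c 32<|c 3<|c d d)<|a (c 50<|c 3<|c d d)<|d) d) :
 Cfsg.Agent.KM.Sp.Ct),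
    by ((try (rewrite [Cfsg.Agent.LsF.f792315_14.2, Cfsg.Agent.LsF.f792315_20.2])); decide +kernel)⟩

theorem okCo3_2 : Ok Co3.D (mkRows Co3.A Co3.B) [] 2 5 [] :=
    ⟨(beta% delta% lq26c70a232c fun a b c d f =>
 (f 10 (let e:=(let e:=(let e:=(b 3<|
 b 3<|b 7<|b 7<|b 1<|d);
 (b 1<|b 1<|b 1<|b 6<|b 1<|e));
 (let e:=(b 3<|b 7<|b 7<|b 7<|b 1<|e);
 (b 1<|b 1<|b 2<|b 3<|e)));
 (let e:=(let e:=(b 3<|b 1<|b 9<|b 9<|b 10<|e);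
 (b 3<|b 5<|b 4<|b 3<|b 5<|e));
 (let e:=(b 3<|b 3<|b 10<|b 10<|b 2<|e);
 (a 10<|a 10<|a 7<|a 7<|e)))) (let e:=(let e:=(let e:=(b 20<|b 23<|b 6<|b 6<|b 24<|d);
 (b 24<|b 24<|b 24<|b 33<|b 24<|e));
 (let e:=(b 20<|b 6<|b 6<|b 11<|
 b 24<|e);
 (b 24<|b 24<|b 24<|b 20<|e)));
 (let e:=(let e:=(b 20<|b 24<|b 6<|b 6<|b 0<|e);
 (b 20<|b 24<|b 24<|b 24<|b 29<|e));
 (let e:=(b 24<|b 20<|b 0<|b 0<|b 24<|e);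
 (a 0<|a 0<|a 20<|a 6<|e)))) (a (c 0<|c 8<|c (a (c 1 17)<|d) (a (c 0 186)<|a (c 1 10)<|a (c 7 254)<|d))<|a (c 3<|c 5<|c (a (c 1 9)<|d)
 (a (c 3 18)<|a (c 10 2)<|d))<|a (c 4<|c 5<|c d d)<|a (c 5<|c 5<|c d d)<|a (c 8<|c 5<|c d d)<|a (c 9<|c 5<|c d d)<|a (c 15<|c 5<|c d d)<|a (c 23<|c 5<|c d
 d)<|a (c 34<|c 5<|c d d)<|d) (a (c 0 d)<|d)) :
 Cfsg.Agent.KM.Sp.Ct),
    by ((try (rewrite [Cfsg.Agent.LsF.f792315_14.2, Cfsg.Agent.LsF.f792315_20.2])); decide +kernel)⟩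

theorem okCo3_3 : Ok Co3.D (mkRows Co3.A Co3.B) [] 3 3 [] :=
    ⟨(beta% delta% lq26c70a232c fun a b c d f =>
 (f 7 (let e:=(let e:=(let e:=(b 1<|b 1<|b 3<|
 b 3<|b 3<|d);
 (b 3<|b 5<|b 7<|b 3<|b 1<|e));
 (let e:=(b 1<|b 4<|b 3<|b 5<|b 1<|e);
 (b 7<|b 7<|b 3<|b 1<|e)));
 (let e:=(let e:=(b 2<|b 1<|b 2<|b 2<|b 1<|e);
 (b 2<|b 5<|b 5<|b 6<|b 6<|e));
 (let e:=(b 7<|b 4<|b 3<|b 2<|b 2<|e);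
 (a 7<|a 5<|a 3<|a 7<|e)))) (let e:=(let e:=(let e:=(b 22<|b 22<|b 12<|b 12<|b 12<|d);
 (b 12<|b 8<|b 0<|b 12<|b 22<|e));
 (let e:=(b 22<|b 12<|b 12<|b 8<|b 22<|
 e);
 (b 0<|b 0<|b 12<|b 23<|e)));
 (let e:=(let e:=(b 22<|b 22<|b 22<|b 22<|b 22<|e);
 (b 23<|b 12<|b 12<|b 16<|b 16<|e));
 (let e:=(b 0<|b 22<|b 22<|b 22<|b 23<|e);
 (a 0<|a 12<|a 22<|a 0<|e)))) (a (c 0<|c 6<|c (a (c 1 2)<|d) (a (c 0 10)<|a (c 3 1)<|d))<|a (c 1<|c 4<|c (a (c 1 2)<|d) (a (c 1 2)<|a (c 11 80)<|d))<|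
 a (c 2<|c 3<|c (a (c 1 2)<|d) (a (c 2 25)<|d))<|a (c 6<|c 3<|c (a (c 1 2)<|d) (a (c 6 25)<|d))<|a (c 7<|c 3<|c d d)<|a (c 8<|c 3<|c d d)<|a (c 9<|c 3<|c d d)<|a (c 15<|c 3<|
 c d d)<|a (c 23<|c 3<|c d d)<|a (c 34<|c 3<|c d d)<|d) (a (c 0 d)<|a (c 1 (a 11<|a 2<|d))<|d)) :
 Cfsg.Agent.KM.Sp.Ct),
    by ((try (rewrite [Cfsg.Agent.LsF.f792315_14.2, Cfsg.Agent.LsF.f792315_20.2])); decide +kernel)⟩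

theorem okCo3_5 : Ok Co3.D (mkRows Co3.A Co3.B) [] 5 3 [] :=
    ⟨(beta% delta% lq26c70a232c fun a b c d f =>
 (f 3 (let e:=(let e:=(let e:=(b 0<|b 0<|b 0<|
 b 0<|b 2<|d);
 (b 2<|b 1<|b 0<|b 2<|b 0<|e));
 (let e:=(b 0<|b 0<|b 0<|b 0<|b 0<|e);
 (b 0<|b 0<|b 2<|b 1<|e)));
 (let e:=(let e:=(b 0<|b 0<|b 0<|b 0<|b 0<|e);
 (b 2<|b 1<|b 0<|b 0<|b 0<|e));
 (let e:=(b 1<|b 0<|b 1<|b 0<|b 3<|e);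
 (a 3<|a 1<|a 1<|a 1<|e)))) (let e:=(let e:=(let e:=(b 11<|b 22<|b 13<|b 13<|b 10<|d);
 (b 10<|b 4<|b 11<|b 10<|b 11<|e));
 (let e:=(b 11<|b 11<|b 11<|b 11<|b 13<|
 e);
 (b 11<|b 11<|b 10<|b 4<|e)));
 (let e:=(let e:=(b 13<|b 11<|b 13<|b 13<|b 13<|e);
 (b 4<|b 11<|b 14<|b 11<|b 11<|e));
 (let e:=(b 4<|b 11<|b 11<|b 11<|b 0<|e);
 (a 0<|a 11<|a 4<|a 13<|e)))) (a (c 0<|c 3<|c (a (c 1 1)<|d) (a (c 0 123)<|d))<|a (c 1<|c 3<|c d d)<|a (c 2<|c 3<|c d d)<|a (c 3<|c 3<|c d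
 d)<|a (c 4<|c 3<|c d d)<|a (c 5<|c 3<|c d d)<|a (c 15<|c 3<|c d d)<|a (c 23<|c 3<|c d d)<|a (c 34<|c 3<|c d d)<|d) d) :
 Cfsg.Agent.KM.Sp.Ct),
    by ((try (rewrite [Cfsg.Agent.LsF.f792315_14.2, Cfsg.Agent.LsF.f792315_20.2])); decide +kernel)⟩

theorem okMcL_2 : Ok McL.D McL.RR [] 2 5 [] :=
    ⟨(beta% delta% lq26c70a232c fun a _ c d f =>
 (f 7 (a 7<|a 7<|a 3<|a 2<|a 7<|a 1<|a 4<|a 3<|a 2<|a 1<|a 7<|a 1<|a 1<|a 5<|a 5<|a 1<|a 1<|a 1<|d) (a 0<|a 0<|a 5<|a 5<|a 0<|a 5<|a 8<|a 5<|a 5<|a 5<|a 0<|a 5<|a 5<|a 3<|a 3<|a 5<|a 5<|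
 a 5<|d) (a (c 0<|c 5<|c (a (c 1 1)<|d) (a (c 0 6)<|a (c 1 2)<|d))<|a (c 2<|c 5<|c d d)<|a (c 3<|c 5<|c d d)<|a (c 5<|c 5<|c d d)<|a (c 6<|c 5<|c d d)<|a (c 9<|c 5<|
 c d d)<|a (c 13<|c 5<|c d (a (c 13 1)<|d))<|d) d) :
 Cfsg.Agent.KM.Sp.Ct),
    by decide +kernel⟩

theorem okMcL_3 : Ok McL.D McL.RR [] 3 3 [] :=
    ⟨(beta% delta% lq26c70a232c fun a _ c d f =>
 (f 6 (a 6<|a 2<|a 6<|a 6<|a 1<|a 1<|a 0<|a 4<|a 4<|a 3<|a 0<|a 6<|a 1<|a 0<|a 4<|a 3<|a 3<|a 3<|d) (a 0<|a 9<|a 0<|a 0<|a 9<|a 9<|a 9<|a 3<|a 3<|a 8<|a 9<|a 0<|a 9<|a 9<|a 3<|a 8<|a 8<|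
 a 8<|d) (a (c 0<|c 6<|c (a (c 1 3)<|d) (a (c 0 9)<|d))<|a (c 1<|c 3<|c d d)<|a (c 5<|c 3<|c d d)<|a (c 6<|c 3<|c d d)<|a (c 9<|c 3<|c d (a (c 9 1)<|d))<|a (c 13<|c 3<|c d
 d)<|d) (a (c 0 d)<|d)) :
 Cfsg.Agent.KM.Sp.Ct),
    by decide +kernel⟩

theorem okHS_2 : Ok HS.D (mkRows HS.A HS.B) [] 2 5 [] :=
    ⟨(beta% delta% lq26c70a232c fun a _ c d f =>
 (f 9 (a 9<|a 6<|a 9<|a 4<|a 9<|a 9<|a 9<|a 2<|a 5<|a 3<|a 3<|a 5<|a 2<|a 9<|a 9<|a 5<|a 2<|a 2<|a 8<|a 2<|a 6<|d) (a 0<|a 11<|a 0<|a 11<|a 0<|a 0<|a 0<|a 11<|a 9<|a 11<|a 11<|a 9<|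
 a 11<|a 0<|a 0<|a 9<|a 11<|a 17<|a 3<|a 11<|a 15<|d) (a (c 0<|c 8<|c (a (c 1 11)<|d) d)<|a (c 3<|c 5<|c d d)<|a (c 7<|c 5<|c d d)<|a (c 8<|c 5<|c (a (c 1 1)<|d) (a (c 8 1)<|
 a (c 15 31)<|d))<|a (c 9<|c 5<|c d d)<|a (c 12<|c 5<|c d d)<|a (c 17<|c 5<|c d d)<|d) (a (c 0 d)<|d)) :
 Cfsg.Agent.KM.Sp.Ct),
    by decide +kernel⟩

theorem okHS_5 : Ok HS.D (mkRows HS.A HS.B) [] 5 3 [] :=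
    ⟨(beta% delta% lq26c70a232c fun a _ c d f =>
 (f 3 (a 3<|a 1<|a 1<|a 1<|a 1<|a 0<|a 0<|a 2<|a 3<|a 3<|a 0<|a 0<|a 0<|a 1<|a 0<|a 2<|a 1<|a 0<|a 0<|a 1<|a 2<|d) (a 0<|a 4<|a 12<|a 4<|a 12<|a 12<|a 12<|a 4<|a 0<|a 0<|a 12<|a 12<|
 a 16<|a 4<|a 12<|a 7<|a 4<|a 12<|a 12<|a 4<|a 7<|d) (a (c 0<|c 3<|c (a (c 1 2)<|d) (a (c 0 2)<|d))<|a (c 1<|c 3<|c d d)<|a (c 2<|c 3<|c d d)<|a (c 3<|c 3<|c d d)<|a (c 12<|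
 c 3<|c d d)<|a (c 17<|c 3<|c d d)<|d) d) :
 Cfsg.Agent.KM.Sp.Ct),
    by decide +kernel⟩

theorem okSuz_2 : Ok Sz.dat (mkRows Sz.rowA Sz.rowB) [] 2 5 [] :=
    ⟨(beta% delta% lq26c70a232c fun a b c d f =>
 (f 13 (let e:=(let e:=(let e:=(b 7<|
 b 13<|b 5<|b 13<|b 8<|d);
 (b 11<|b 8<|b 3<|b 13<|b 9<|e));
 (let e:=(b 6<|b 12<|b 11<|b 5<|b 8<|e);
 (b 2<|b 3<|b 4<|b 4<|e)));
 (let e:=(let e:=(b 2<|b 3<|b 3<|b 3<|b 2<|e);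
 (b 2<|b 3<|b 13<|b 3<|e));
 (let e:=(b 6<|b 7<|b 3<|b 9<|b 10<|e);
 (a 13<|a 13<|a 13<|a 6<|e)))) (let e:=(let e:=(let e:=(b 27<|b 0<|b 18<|b 0<|b 27<|d);
 (b 3<|b 27<|b 16<|b 0<|b 16<|e));
 (let e:=(b 16<|b 2<|b 3<|b 27<|
 b 15<|e);
 (b 18<|b 16<|b 16<|b 27<|e)));
 (let e:=(let e:=(b 18<|b 16<|b 16<|b 24<|b 18<|e);
 (b 18<|b 16<|b 0<|b 16<|e));
 (let e:=(b 18<|b 15<|b 16<|b 15<|b 5<|e);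
 (a 0<|a 0<|a 0<|a 27<|e)))) (a (c 0<|c 9<|c (a (c 161 1)<|a (c 91 2)<|a (c (-7) 3)<|a (c 1 4)<|d) (a (c 0 232)<|a (c 1 24)<|a (c 2
 484)<|a (c 33 20)<|a (c 35 324)<|d))<|a (c 4<|c 5<|c (a (c 1 8)<|d) (a (c 4 3)<|a (c 3 31)<|d))<|a (c 6<|c 5<|c d d)<|a (c 36<|c 5<|c (a (c 1 9)<|d) (a (c 28 1)<|a (c 7
 31)<|a (c 36 13)<|d))<|a (c 14<|c 5<|c d d)<|a (c 34<|c 5<|c (a (c 1 1)<|d) d)<|a (c 29<|c 5<|c d d)<|a (c 9<|c 5<|c d d)<|a (c 16<|c 5<|c d d)<|d) (a (c 0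
 d)<|d)) :
 Cfsg.Agent.KM.Sp.Ct),
    by ((try (rewrite [Cfsg.Agent.LsF.f792315_14.2, Cfsg.Agent.LsF.f792315_20.2, Cfsg.Agent.LsF.ineg_pat])); decide +kernel)⟩

theorem okSuz_3 : Ok Sz.dat (mkRows Sz.rowA Sz.rowB) [] 3 3 [] :=
    ⟨(beta% delta% lq26c70a232c fun a b c d f =>
 (f 7 (let e:=(let e:=(let e:=(b 6<|b 1<|b 2<|b 2<|
 b 7<|d);
 (b 1<|b 3<|b 1<|b 1<|b 2<|e));
 (let e:=(b 2<|b 2<|b 1<|b 1<|b 4<|e);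
 (b 2<|b 2<|b 7<|b 7<|e)));
 (let e:=(let e:=(b 1<|b 1<|b 2<|b 2<|b 1<|e);
 (b 1<|b 1<|b 1<|b 1<|e));
 (let e:=(b 7<|b 1<|b 4<|b 2<|b 4<|e);
 (a 7<|a 4<|a 2<|a 5<|e)))) (let e:=(let e:=(let e:=(b 6<|b 11<|b 10<|b 11<|b 0<|d);
 (b 11<|b 11<|
 b 11<|b 11<|b 10<|e));
 (let e:=(b 10<|b 10<|b 11<|b 11<|b 6<|e);
 (b 10<|b 10<|b 0<|b 0<|e)));
 (let e:=(let e:=(b 11<|b 11<|b 10<|b 30<|b 11<|e);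
 (b 11<|b 11<|b 11<|b 11<|e));
 (let e:=(b 0<|b 11<|b 10<|b 11<|b 6<|e);
 (a 0<|a 11<|a 11<|a 6<|e)))) (a (c 0<|c 6<|c (a (c 1 10)<|d) d)<|a (c 1<|c 4<|c (a (c 1 5)<|d) (a (c 1 3)<|d))<|a (c 31<|c 3<|c d d)<|a (c 2<|c 3<|c d
 d)<|a (c 33<|c 3<|c d d)<|a (c 35<|c 3<|c d d)<|a (c 14<|c 3<|c d d)<|a (c 34<|c 3<|c d d)<|a (c 29<|c 3<|c d d)<|a (c 9<|c 3<|c d d)<|a (c 16<|c 3<|
 c d d)<|d) (a (c 0 d)<|a (c 1 (a 3<|a 2<|a 1<|d))<|d)) :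
 Cfsg.Agent.KM.Sp.Ct),
    by ((try (rewrite [Cfsg.Agent.LsF.f792315_14.2, Cfsg.Agent.LsF.f792315_20.2])); decide +kernel)⟩

theorem okHe_2 : Ok He.D He.RR [] 2 5 [] :=
    ⟨(beta% delta% lq26c70a232c fun a _ c d f =>
 (f 10 (a 10<|a 9<|a 10<|a 3<|a 5<|a 6<|a 10<|a 10<|a 3<|a 3<|a 3<|a 2<|a 3<|a 10<|a 3<|a 3<|a 3<|a 4<|a 2<|a 3<|a 3<|a 3<|a 5<|a 7<|a 2<|d) (a 0<|a 3<|a 0<|a 3<|a 5<|a 3<|a 0<|a 0<|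
 a 3<|a 3<|a 3<|a 5<|a 5<|a 0<|a 3<|a 3<|a 3<|a 11<|a 5<|a 3<|a 7<|a 3<|a 11<|a 1<|a 5<|d) (a (c 0<|c 9<|c (a (c 150 2)<|a (c 1 4)<|d) (a (c 0 2)<|a (c 2 450)<|a (c 7 362)<|d))<|
 a (c 3<|c 5<|c d d)<|a (c 4<|c 5<|c (a (c 1 5)<|d) d)<|a (c 8<|c 5<|c d d)<|a (c 10<|c 5<|c d d)<|a (c 11<|c 5<|c d d)<|a (c 12<|c 5<|c d d)<|a (c 19<|c 5<|
 c d d)<|d) (a (c 0 d)<|d)) :
 Cfsg.Agent.KM.Sp.Ct),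
    by decide +kernel⟩

theorem okHe_3 : Ok He.D He.RR [] 3 3 [] :=
    ⟨(beta% delta% lq26c70a232c fun a _ c d f =>
 (f 3 (a 3<|a 2<|a 1<|a 3<|a 2<|a 2<|a 2<|a 1<|a 2<|a 2<|a 1<|a 2<|a 1<|a 2<|a 2<|a 2<|a 1<|a 1<|a 2<|a 1<|a 2<|a 1<|a 1<|a 3<|a 1<|d) (a 0<|a 3<|a 11<|a 0<|a 11<|a 2<|a 23<|a 23<|a 3<|
 a 3<|a 11<|a 2<|a 11<|a 2<|a 3<|a 2<|a 23<|a 11<|a 3<|a 11<|a 2<|a 23<|a 11<|a 0<|a 11<|d) (a (c 0<|c 3<|c (a (c 1 1)<|d) (a (c 0 14)<|d))<|a (c 1<|c 3<|c d d)<|a (c 2<|c 3<|c d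
 d)<|a (c 8<|c 3<|c d d)<|a (c 10<|c 3<|c d d)<|a (c 11<|c 3<|c d d)<|a (c 12<|c 3<|c d d)<|a (c 19<|c 3<|c d d)<|d) d) :
 Cfsg.Agent.KM.Sp.Ct),
    by decide +kernel⟩

theorem okHe_7 : Ok He.D He.RR [] 7 3 [] :=
    ⟨(beta% delta% lq26c70a232c fun a _ c d f =>
 (f 3 (a 3<|a 1<|a 1<|a 1<|a 1<|a 1<|a 0<|a 0<|a 0<|a 0<|a 2<|a 3<|a 3<|a 0<|a 0<|a 0<|a 1<|a 3<|a 0<|a 0<|a 2<|a 1<|a 0<|a 0<|a 1<|d) (a 0<|a 6<|a 10<|a 10<|a 6<|a 6<|a 10<|a 12<|a 10<|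
 a 10<|a 6<|a 0<|a 0<|a 12<|a 10<|a 12<|a 6<|a 0<|a 10<|a 10<|a 9<|a 6<|a 10<|a 10<|a 6<|d) (a (c 0<|c 3<|c (a (c 1 2)<|d) (a (c 0 1)<|d))<|a (c 1<|c 3<|c d d)<|a (c 2<|c 3<|c d
 d)<|a (c 3<|c 3<|c d d)<|a (c 4<|c 3<|c d d)<|a (c 8<|c 3<|c d d)<|a (c 19<|c 3<|c d d)<|d) d) :
 Cfsg.Agent.KM.Sp.Ct),
    by decide +kernel⟩

theorem okRu_2 : Ok Ru.D Ru.RR [] 2 5 [] :=
    ⟨(beta% delta% lq26c70a232c fun a _ c d f =>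
 (f 14 (a 14<|a 8<|a 14<|a 6<|a 14<|a 14<|a 14<|a 14<|a 2<|a 6<|a 12<|a 2<|a 13<|a 14<|a 13<|a 2<|a 11<|a 12<|a 12<|a 2<|a 2<|a 2<|a 14<|a 11<|a 11<|a 12<|a 2<|a 2<|d) (a 0<|
 a 19<|a 0<|a 19<|a 0<|a 0<|a 0<|a 0<|a 19<|a 21<|a 3<|a 19<|a 3<|a 0<|a 3<|a 19<|a 11<|a 3<|a 3<|a 19<|a 19<|a 19<|a 0<|a 11<|a 11<|a 3<|a 19<|a 19<|d) (a (c 0<|c 11<|c (a (c (-2) 1)<|
 a (c 1 11)<|d) (a (c 0 60)<|a (c 2 2044)<|a (c 4 4)<|a (c 7 8)<|d))<|a (c 3<|c 5<|c (a (c 1 3)<|d) (a (c 3 1)<|a (c 10 1)<|a (c 18 31)<|d))<|a (c 8<|c 5<|c d d)<|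
 a (c 9<|c 5<|c (a (c 1 1)<|d) (a (c 9 2)<|d))<|a (c 11<|c 5<|c d d)<|a (c 19<|c 5<|c d d)<|a (c 27<|c 5<|c d d)<|d) (a (c 0 d)<|d)) :
 Cfsg.Agent.KM.Sp.Ct),
    by decide +kernel⟩

theorem okRu_5 : Ok Ru.D Ru.RR [] 5 3 [] :=
    ⟨(beta% delta% lq26c70a232c fun a _ c d f =>
 (f 3 (a 3<|a 1<|a 1<|a 1<|a 0<|a 0<|a 1<|a 1<|a 2<|a 3<|a 0<|a 0<|a 0<|a 0<|a 0<|a 1<|a 2<|a 0<|a 0<|a 0<|a 0<|a 1<|a 0<|a 2<|a 2<|a 0<|a 0<|a 0<|d) (a 0<|a 5<|a 6<|a 5<|a 6<|a 6<|a 6<|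
 a 6<|a 5<|a 0<|a 6<|a 6<|a 6<|a 6<|a 6<|a 5<|a 8<|a 6<|a 6<|a 6<|a 6<|a 5<|a 15<|a 8<|a 8<|a 6<|a 6<|a 9<|d) (a (c 0<|c 3<|c (a (c 1 1)<|d) (a (c 0 6)<|d))<|a (c 1<|c 3<|c d d)<|a (c 2<|
 c 3<|c d d)<|a (c 3<|c 3<|c d d)<|a (c 11<|c 3<|c d d)<|a (c 19<|c 3<|c d d)<|a (c 27<|c 3<|c d d)<|d) d) :
 Cfsg.Agent.KM.Sp.Ct),
    by decide +kernel⟩

theorem okON_2 : Ok ON.dON ON.tabON [] 2 5 [] :=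
    ⟨(beta% delta% lq26c70a232c fun a _ c d f =>
 (f 9 (a 9<|a 9<|a 3<|a 9<|a 9<|a 3<|a 3<|a 3<|a 3<|a 9<|a 9<|a 3<|a 3<|a 3<|a 3<|a 3<|a 9<|a 9<|a 6<|a 3<|a 3<|a 2<|d) (a 0<|a 0<|a 1<|a 0<|a 0<|a 1<|a 1<|a 1<|a 1<|a 0<|a 0<|a 1<|a 1<|
 a 1<|a 1<|a 1<|a 0<|a 0<|a 14<|a 1<|a 1<|a 4<|d) (a (c 0<|c 9<|c (a (c 1 1)<|a (c (-100) 8)<|d) (a (c 0 80)<|a (c 1 112)<|d))<|a (c 2<|c 5<|c d d)<|a (c 5<|c 5<|c d d)<|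
 a (c 7<|c 5<|c d d)<|a (c 8<|c 5<|c d d)<|a (c 12<|c 5<|c d d)<|a (c 18<|c 5<|c d (a (c 18 1)<|d))<|a (c 21<|c 5<|c d d)<|d) (a (c 0 d)<|d)) :
 Cfsg.Agent.KM.Sp.Ct),
    by decide +kernel⟩

private noncomputable def _root_.Cfsg.Agent.LsF.f792315_22 : {f // @Cfsg.Agent.TAB.Ly.dz = f} := ⟨_, by first | (delta Cfsg.Agent.TAB.Ly.dz; rewrite [Cfsg.Agent.LsF.ndiv_pat, Cfsg.Agent.LsF.nmod_pat, Cfsg.Agent.LsF.ineg_pat, Cfsg.Agent.LsF.icast_pat, Cfsg.Agent.LsF.instDecEq_eq, Cfsg.Agent.LsF.ite_eq]; exact rfl) | exact rfl⟩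
private noncomputable def _root_.Cfsg.Agent.LsF.f792315_23 : {f // @Cfsg.Agent.TAB.Ly.rows = f} := ⟨_, by first | (delta Cfsg.Agent.TAB.Ly.rows; rewrite [Cfsg.Agent.LsF.f792315_22.2, Cfsg.Agent.LsF.map_eq]; exact rfl) | exact rfl⟩
private noncomputable def _root_.Cfsg.Agent.LsF.f792315_24 : {f // @Cfsg.Agent.TAB.Ly.tb = f} := ⟨_, by first | (delta Cfsg.Agent.TAB.Ly.tb; rewrite [Cfsg.Agent.LsF.f792315_23.2, Cfsg.Agent.LsF.zip_eq]; exact rfl) | exact rfl⟩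
theorem okLy_2 : Ok Ly.dat Ly.tb [] 2 5 [] :=
    ⟨(beta% delta% lq26c70a232c fun a b c d f =>
 (f 8 (let e:=(let e:=(let e:=(b 3<|b 6<|
 b 6<|b 3<|b 6<|d);
 (b 3<|b 5<|b 4<|b 3<|b 3<|e));
 (let e:=(b 6<|b 3<|b 3<|b 7<|b 6<|e);
 (b 4<|b 4<|b 3<|b 3<|b 5<|e)));
 (let e:=(let e:=(b 5<|b 4<|b 3<|b 7<|b 6<|e);
 (b 4<|b 4<|b 7<|b 7<|b 5<|e));
 (let e:=(b 8<|b 5<|b 4<|b 7<|b 5<|e);
 (a 8<|a 8<|a 7<|a 5<|e)))) (let e:=(let e:=(let e:=(b 8<|b 4<|b 4<|b 19<|b 4<|d);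
 (b 8<|b 6<|b 19<|b 8<|
 b 8<|e));
 (let e:=(b 4<|b 19<|b 8<|b 1<|b 4<|e);
 (b 19<|b 8<|b 8<|b 8<|b 6<|e)));
 (let e:=(let e:=(b 8<|b 8<|b 8<|b 1<|b 4<|e);
 (b 8<|b 19<|b 4<|b 4<|b 6<|e));
 (let e:=(b 0<|b 8<|b 8<|b 1<|b 8<|e);
 (a 0<|a 0<|a 1<|a 8<|e)))) (a (c 0<|c 7<|c (a (c 1 17)<|d) (a (c 0 80)<|d))<|a (c 2<|c 5<|c (a (c 1 2)<|d) (a (c 2 14)<|a (c 7 2)<|d))<|a (c 3<|c 5<|c (a (c 1 1)<|d) (a (c 3 2)<|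
 a (c 8 2)<|d))<|a (c 5<|c 5<|c (a (c 1 2)<|d) (a (c 5 11)<|a (c 14 31)<|a (c 24 31)<|d))<|a (c 6<|c 5<|c d d)<|a (c 10<|c 5<|c d d)<|a (c 16<|c 5<|c d d)<|a (c 33<|
 c 5<|c d d)<|a (c 35<|c 5<|c d (a (c 35 1)<|d))<|a (c 38<|c 5<|c d (a (c 38 1)<|d))<|d) (a (c 0 d)<|d)) :
 Cfsg.Agent.KM.Sp.Ct),
    by ((try (rewrite [Cfsg.Agent.LsF.f792315_14.2, Cfsg.Agent.LsF.f792315_24.2])); decide +kernel)⟩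

theorem okLy_3 : Ok Ly.dat Ly.tb [] 3 3 [] :=
    ⟨(beta% delta% lq26c70a232c fun a b c d f =>
 (f 7 (let e:=(let e:=(let e:=(b 1<|b 1<|
 b 1<|b 1<|b 1<|d);
 (b 1<|b 1<|b 2<|b 4<|b 5<|e));
 (let e:=(b 1<|b 1<|b 1<|b 1<|b 5<|e);
 (b 1<|b 2<|b 4<|b 1<|b 7<|e)));
 (let e:=(let e:=(b 2<|b 1<|b 1<|b 2<|b 4<|e);
 (b 6<|b 1<|b 1<|b 2<|b 7<|e));
 (let e:=(b 2<|b 2<|b 1<|b 3<|b 5<|e);
 (a 7<|a 4<|a 7<|a 7<|e)))) (let e:=(let e:=(let e:=(b 5<|b 5<|b 5<|b 13<|b 13<|d);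
 (b 5<|b 5<|b 5<|
 b 22<|b 8<|e));
 (let e:=(b 5<|b 13<|b 5<|b 5<|b 4<|e);
 (b 13<|b 5<|b 22<|b 5<|b 0<|e)));
 (let e:=(let e:=(b 5<|b 5<|b 5<|b 5<|b 22<|e);
 (b 4<|b 13<|b 5<|b 24<|b 0<|e));
 (let e:=(b 5<|b 5<|b 5<|b 5<|b 22<|e);
 (a 0<|a 5<|a 0<|a 0<|e)))) (a (c 0<|c 7<|c (a (c 1 1)<|a (c (-990) 2)<|d) (a (c 0 1477)<|a (c 3 1198)<|d))<|a (c 1<|c 4<|c (a (c 1 1)<|d) (a (c 1 2)<|a (c 9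
 80)<|d))<|a (c 4<|c 3<|c d d)<|a (c 5<|c 3<|c d d)<|a (c 6<|c 3<|c d d)<|a (c 10<|c 3<|c d d)<|a (c 16<|c 3<|c d d)<|a (c 33<|c 3<|c d (a (c 33 1)<|d))<|
 a (c 35<|c 3<|c d d)<|a (c 38<|c 3<|c d d)<|d) (a (c 0 d)<|a (c 1 (a 20<|a 1<|d))<|d)) :
 Cfsg.Agent.KM.Sp.Ct),
    by ((try (rewrite [Cfsg.Agent.LsF.f792315_14.2, Cfsg.Agent.LsF.f792315_24.2, Cfsg.Agent.LsF.ineg_pat])); decide +kernel)⟩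

theorem okLy_5 : Ok Ly.dat Ly.tb [(22, 600)] 5 3 [] :=
    ⟨(beta% delta% lq26c70a232c fun a b c d f =>
 (f 6 (let e:=(let e:=(let e:=(b 0<|b 0<|
 b 3<|b 0<|b 0<|d);
 (b 6<|b 0<|b 3<|b 3<|b 0<|e));
 (let e:=(b 3<|b 0<|b 0<|b 0<|b 0<|e);
 (b 0<|b 4<|b 3<|b 2<|b 0<|e)));
 (let e:=(let e:=(b 4<|b 5<|b 0<|b 0<|b 0<|e);
 (b 0<|b 0<|b 1<|b 0<|b 0<|e));
 (let e:=(b 1<|b 6<|b 6<|b 1<|b 1<|e);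
 (a 6<|a 2<|a 3<|a 1<|e)))) (let e:=(let e:=(let e:=(b 20<|b 27<|b 4<|b 20<|b 25<|d);
 (b 0<|b 20<|b 4<|b 4<|b 20<|e));
 (let e:=(b 4<|b 20<|b 25<|b 20<|
 b 25<|e);
 (b 20<|b 4<|b 4<|b 2<|b 27<|e)));
 (let e:=(let e:=(b 4<|b 3<|b 20<|b 20<|b 25<|e);
 (b 20<|b 20<|b 20<|b 20<|b 20<|e));
 (let e:=(b 20<|b 0<|b 0<|b 20<|b 25<|e);
 (a 0<|a 20<|a 25<|a 20<|e)))) (a (c 0<|c 6<|c (a (c 1 19)<|d) (a (c 0 20)<|d))<|a (c 1<|c 3<|c d d)<|a (c 2<|c 3<|c (a (c 1 2)<|d) (a (c 2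
 5)<|d))<|a (c 3<|c 3<|c d d)<|a (c 10<|c 3<|c d d)<|a (c 16<|c 3<|c d d)<|a (c 33<|c 3<|c d d)<|a (c 35<|c 3<|c d d)<|a (c 38<|c 3<|c d d)<|d) (a (c 0
 d)<|d)) :
 Cfsg.Agent.KM.Sp.Ct),
    by ((try (rewrite [Cfsg.Agent.LsF.f792315_14.2, Cfsg.Agent.LsF.f792315_24.2])); decide +kernel)⟩

end Cfsg.Agent.KM.Sp
end
end
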